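import Groth.Agent.SheafHomX.Basic
import Groth.Agent.QCoh.FT
import Groth.Agent.QCoh.LocFree
import Groth.Agent.QCoh.Support
import Groth.Agent.QCoh.Tilde
import Groth.Agent.QCoh.VanIdeal
import Groth.Agent.QCoh.DevissageIdeal
import Groth.Agent.QCoh.RpushProper
import Groth.Agent.Algz7.Restrict
import Groth.Agent.Algz7.Completion

/-!
# The sheaf of homomorphisms of coherent modules is coherent
-/

set_option linter.style.haveILetI false
set_option backward.isDefEq.respectTransparency false

universe u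

open CategoryTheory CategoryTheory.Limits AlgebraicGeometry

namespace Groth.Agent.SheafHomX

open Groth.Agent

attribute [local instance] QCoh.hasFiniteBiproducts

variable {X : Scheme.{u}}

/-- `homMap` as an additive map. -/
noncomputable def homMapHom (M M' N : X.Modules) : (M ⟶ M') →+ ((hom M').obj N ⟶ (hom M).obj N) where
  toFun g := (homMap g).app N
  map_zero' := homMap_zero M M' N
  map_add' f g := homMap_add f g N

/-- A contravariant additive assignment turns finite sums into finite products. -/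
noncomputable def contraBiproductIso {C D : Type*} [Category C] [Category D] [Preadditive C] [Preadditive D]
    {β : Type u} [Fintype β] (T : β → C) [HasBiproduct T] (H : C → D) [HasBiproduct fun b => H (T b)]
    (m : ∀ A B : C, (A ⟶ B) →+ (H B ⟶ H A)) (hid : ∀ A, m A A (𝟙 A) = 𝟙 (H A))
    (hcomp : ∀ {A B E : C} (f : A ⟶ B) (g : B ⟶ E), m A E (f ≫ g) = m B E g ≫ m A B f) :
    H (⨁ T) ≅ ⨁ fun b => H (T b) where
  hom := biproduct.lift fun b => m _ _ (biproduct.ι T b)
  inv := biproduct.desc fun b => m _ _ (biproduct.π T b)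
  hom_inv_id := by
    classical
    have key : ∀ {W W' : D} (g : ∀ b : β, W ⟶ H (T b)) (h : ∀ b : β, H (T b) ⟶ W'),
        biproduct.lift g ≫ biproduct.desc h = ∑ b : β, g b ≫ h b := fun g h => by
      have e : biproduct.lift g = ∑ b : β, g b ≫ biproduct.ι (fun b => H (T b)) b :=
        biproduct.hom_ext _ _ fun j => by
          simp [Preadditive.sum_comp, biproduct.ι_π, comp_dite]
      rw [e, Preadditive.sum_comp]
      exact Finset.sum_congr rfl fun b _ => by rw [Category.assoc, biproduct.ι_desc]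
    rw [key]
    simp_rw [← hcomp]
    have htot : ∑ b : β, biproduct.π T b ≫ biproduct.ι T b = 𝟙 (⨁ T) :=
      biproduct.hom_ext _ _ fun j => by
        simp [Preadditive.sum_comp, biproduct.ι_π, comp_dite]
    rw [← map_sum, htot, hid]
  inv_hom_id := by
    classical
    refine biproduct.hom_ext' _ _ fun b => biproduct.hom_ext _ _ fun c => ?_
    rw [Category.comp_id, biproduct.ι_desc_assoc, Category.assoc, biproduct.lift_π, ← hcomp,
      biproduct.ι_π, biproduct.ι_π]
    by_cases h : b = c
    · subst h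
      simp [hid]
    · simp [h, Ne.symm h]

/-- `hom` turns finite sums into finite products. -/
noncomputable def homBiproductIso {β : Type u} [Fintype β] (T : β → X.Modules) (N : X.Modules) :
    (hom (⨁ T)).obj N ≅ ⨁ fun b => (hom (T b)).obj N :=
  contraBiproductIso T (fun A => (hom A).obj N) (fun A B => homMapHom A B N) (fun A => homMap_id A N)
    (fun f g => homMap_comp f g N)

/-- `hom` of a finite free module. -/
theorem isQCoh_hom_biproduct_unit {σ : Type u} [Fintype σ] {N : X.Modules} (hN : Coh.IsQCoh N) :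
    Coh.IsQCoh ((hom (⨁ fun _ : σ => Coh.structureModule X)).obj N) :=
  (QCoh.isQCoh_iff_iso (homBiproductIso _ N)).2
    (QCoh.isQCoh_biproduct _ fun _ => (QCoh.isQCoh_iff_iso ((unitIso X).app N)).2 hN)

theorem isCoh_biproduct_self {σ : Type u} [Fintype σ] {N : X.Modules} (hN : Coh.IsCoh N) :
    Coh.IsCoh (⨁ fun _ : σ => N) := by
  refine QCoh.isCoh_iff.2 ⟨QCoh.isQCoh_biproduct _ fun _ => hN.1, fun U => ?_⟩
  haveI := (QCoh.isCoh_iff.1 hN).2 U
  refine Module.Finite.of_surjective
    ({ toFun := fun x => ∑ k : σ, (biproduct.ι (fun _ : σ => N) k).app U.1 (x k)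
       map_add' := fun x y => by simp [map_add, Finset.sum_add_distrib]
       map_smul' := fun r x => by simp [Finset.smul_sum, Scheme.Modules.Hom.app_smul] } :
      (σ → Γ(N, U.1)) →ₗ[Γ(X, U.1)] Γ(⨁ fun _ : σ => N, U.1)) fun y => ?_
  exact ⟨fun k => (biproduct.π (fun _ : σ => N) k).app U.1 y, (QCoh.biproduct_app_decomp _ _ y).symm⟩

/-- `hom` out of a finitely presented module on a locally Noetherian scheme is coherent. -/
theorem isQCoh_hom_of_presentation {σ τ : Type u} [Fintype σ] [Fintype τ] {M : X.Modules}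
    (f : (⨁ fun _ : τ => Coh.structureModule X) ⟶ ⨁ fun _ : σ => Coh.structureModule X)
    (g : (⨁ fun _ : σ => Coh.structureModule X) ⟶ M) [Epi g] (w : f ≫ g = 0)
    (he : (ShortComplex.mk f g w).Exact) {N : X.Modules} (hN : Coh.IsQCoh N) :
    Coh.IsQCoh ((hom M).obj N) ∧ ∀ [IsLocallyNoetherian X], Coh.IsCoh N → Coh.IsCoh ((hom M).obj N) := by
  haveI : Epi (ShortComplex.mk f g w).g := ‹Epi g›
  obtain ⟨e⟩ := exists_kernel_iso he N
  have hq : Coh.IsQCoh ((hom M).obj N) := (QCoh.isQCoh_iff_iso e).2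
    (QCoh.isQCoh_kernel (isQCoh_hom_biproduct_unit hN) (isQCoh_hom_biproduct_unit hN) _)
  refine ⟨hq, fun hN' => ?_⟩
  let e' : (hom (⨁ fun _ : σ => Coh.structureModule X)).obj N ≅ ⨁ fun _ : σ => N :=
    homBiproductIso _ N ≪≫ biproduct.mapIso fun _ => (unitIso X).app N
  exact QCoh.isCoh_of_mono (e.hom ≫ kernel.ι _ ≫ e'.hom) (isCoh_biproduct_self hN') hq

/-- Coherent modules on a Noetherian affine scheme have finite presentations by sums of the structure sheaf. -/
theorem exists_presentation_biproduct {R : CommRingCat.{u}} [IsNoetherianRing R] {M : (Spec R).Modules}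
    (hM : Coh.IsCoh M) :
    ∃ (σ τ : Type u) (_ : Fintype σ) (_ : Fintype τ)
      (f : (⨁ fun _ : τ => Coh.structureModule (Spec R)) ⟶ ⨁ fun _ : σ => Coh.structureModule (Spec R))
      (g : (⨁ fun _ : σ => Coh.structureModule (Spec R)) ⟶ M) (w : f ≫ g = 0),
      Epi g ∧ (ShortComplex.mk f g w).Exact := by
  haveI := (QCoh.isFT_iff_finite (R := R) M hM.1).1 hM.2
  haveI : Module.FinitePresentation R (moduleSpecΓFunctor.obj M) := Module.finitePresentation_of_finite R _
  obtain ⟨P, hP⟩ := QCoh.exists_presentation_of_finitePresentation hM.1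
  haveI : Finite P.generators.I := SheafOfModules.GeneratingSections.IsFiniteType.finite
  haveI : Finite P.relations.I := SheafOfModules.GeneratingSections.IsFiniteType.finite
  haveI := Fintype.ofFinite P.generators.I
  haveI := Fintype.ofFinite P.relations.I
  let a : (⨁ fun _ : P.generators.I => Coh.structureModule (Spec R)) ≅
      (SheafOfModules.free P.generators.I : (Spec R).Modules) :=
    biproduct.isoCoproduct _
  let b : (⨁ fun _ : P.relations.I => Coh.structureModule (Spec R)) ≅
      (SheafOfModules.free P.relations.I : (Spec R).Modules) :=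
    biproduct.isoCoproduct _
  let π : (SheafOfModules.free P.generators.I : (Spec R).Modules) ⟶ M := P.generators.π
  let k : (SheafOfModules.free P.relations.I : (Spec R).Modules) ⟶ kernel π := P.relations.π
  haveI : Epi k := inferInstanceAs (Epi P.relations.π)
  haveI : Epi π := inferInstanceAs (Epi P.generators.π)
  have w : (b.hom ≫ k ≫ kernel.ι π ≫ a.inv) ≫ (a.hom ≫ π) = 0 := by
    simp
  refine ⟨_, _, inferInstance, inferInstance, _, _, w, inferInstance, ?_⟩
  have h0 : (ShortComplex.mk (kernel.ι π) π (kernel.condition π)).Exact :=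
    ShortComplex.exact_of_f_is_kernel _ (kernelIsKernel π)
  have h1 : (ShortComplex.mk (k ≫ kernel.ι π) π (by simp)).Exact := by
    let φ : ShortComplex.mk (k ≫ kernel.ι π) π (by simp) ⟶ ShortComplex.mk (kernel.ι π) π (kernel.condition π) :=
      { τ₁ := k, τ₂ := 𝟙 _, τ₃ := 𝟙 _ }
    exact (ShortComplex.exact_iff_of_epi_of_isIso_of_mono φ).2 h0
  refine (ShortComplex.exact_iff_of_iso (ShortComplex.isoMk b a (Iso.refl M) ?_ ?_)).2 h1
  · simp
  · simp

theorem isCoh_restrict {Y : Scheme.{u}} (j : Y ⟶ X) [IsOpenImmersion j] {M : X.Modules} (hM : Coh.IsCoh M) :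
    Coh.IsCoh (M.restrict j) :=
  ⟨QCoh.isQCoh_restrict j hM.1, Algz7.isFT_restrict j hM.1 hM.2⟩

theorem isCoh_of_iso {M N : X.Modules} (e : M ≅ N) (h : Coh.IsCoh M) : Coh.IsCoh N :=
  Algz7.isCoh_of_epi e.hom h ((QCoh.isQCoh_iff_iso e).1 h.1)

/-- `hom` of coherent modules is coherent. -/
theorem isCoh_hom [IsLocallyNoetherian X] {M N : X.Modules} (hM : Coh.IsCoh M) (hN : Coh.IsCoh N) :
    Coh.IsCoh ((hom M).obj N) := by
  have hloc : ∀ (R : CommRingCat.{u}) (j : Spec R ⟶ X) [IsOpenImmersion j],
      Coh.IsCoh (((hom M).obj N).restrict j) := fun R j _ => by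
    haveI : IsLocallyNoetherian (Spec R) := LocallyOfFiniteType.isLocallyNoetherian j
    haveI : IsNoetherianRing R := isLocallyNoetherian_Spec.1 ‹_›
    have hc : ∀ {P : X.Modules}, Coh.IsCoh P → Coh.IsCoh (P.restrict j) := fun h => isCoh_restrict j h
    obtain ⟨σ, τ, _, _, f, g, w, hg, he⟩ := exists_presentation_biproduct (hc hM)
    have h := (isQCoh_hom_of_presentation f g w he (hc hN).1).2 (hc hN)
    exact isCoh_of_iso ((restrictIso j M).app N).symm h
  have hq : Coh.IsQCoh ((hom M).obj N) := QCoh.isQCoh_of_charts fun R j _ => (hloc R j).1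
  refine QCoh.isCoh_iff.2 ⟨hq, fun U => ?_⟩
  haveI : Module.Finite Γ(X, U.1) (moduleSpecΓFunctor.obj (((hom M).obj N).restrict U.2.fromSpec)) :=
    (QCoh.isFT_iff_finite (R := Γ(X, U.1)) _ (hloc _ U.2.fromSpec).1).1 (hloc _ U.2.fromSpec).2
  exact Module.Finite.equiv (QCoh.chartEquiv U.2 ((hom M).obj N)).symm

end Groth.Agent.SheafHomX
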