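import Groth.Agent.SheafHomX.Basic
import Groth.Agent.QCoh.TensorSections
import Groth.Agent.FFun.Basic
import Groth.Agent.QCoh.TensorUnit
import Groth.Agent.KFlatLib.Scheme.PullTensorCx

/-!
# `hom` commutes with multiplication by scalars; the kernel of `M → M/JM` on affines
-/

set_option linter.style.haveILetI false
set_option backward.isDefEq.respectTransparency false
set_option backward.isDefEq.respectTransparency.types false

universe u

open CategoryTheory CategoryTheory.Limits AlgebraicGeometry Opposite MonoidalCategory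

namespace Groth.Agent.SheafHomX

open Groth.Agent

variable {A : Type u} [CommRing A] {X : Scheme.{u}} [X.Over (Spec (CommRingCat.of A))]

/-- Morphisms out of a tensor product of presheaves are determined on pure tensors. -/
theorem pmod_ext {P Q R : CohB1.PMod X} {a b : P ⊗ Q ⟶ R}
    (h : ∀ (U : (X.Opens)ᵒᵖ) (s : P.obj U) (t : Q.obj U), a.app U (KFlatLib.tm s t) = b.app U (KFlatLib.tm s t)) :
    a = b := by
  refine PresheafOfModules.Hom.ext (funext fun U => ModuleCat.hom_ext (LinearMap.ext fun z => ?_))
  refine KFlatLib.tm_induction (P := P) (Q := Q) (C := fun w => a.app U w = b.app U w) z ?_ (h U) ?_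
  · exact (map_zero _).trans (map_zero _).symm
  · intro x y hx hy
    exact (map_add _ x y).trans ((congrArg₂ (· + ·) hx hy).trans (map_add _ x y).symm)

/-- Morphisms out of a tensor product are determined on pure tensors of sections. -/
theorem tensor_hom_ext {M N P : X.Modules} {f g : (DCoh.tensorBi.obj M).obj N ⟶ P}
    (h : ∀ (U : X.Opens) (s : Γ(M, U)) (t : Γ(N, U)), f.app U (QCoh.tmS M N s t) = g.app U (QCoh.tmS M N s t)) :
    f = g := by
  apply ((PresheafOfModules.sheafificationAdjunction (𝟙 X.ringCatSheaf.obj)).homEquiv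
    (DCoh.toP.obj M ⊗ DCoh.toP.obj N : CohB1.PMod X) P).injective
  rw [Adjunction.homEquiv_unit, Adjunction.homEquiv_unit]
  exact pmod_ext fun U s t => h U.unop s t

/-- `ten` commutes with scalars. -/
theorem ten_map_smulMod (M Z : X.Modules) (a : A) :
    (ten M).map (Formal.smulMod A Z a) = Formal.smulMod A ((ten M).obj Z) a := by
  refine tensor_hom_ext (M := Z) (N := M) fun U s t => ?_
  have h1 : ((ten M).map (Formal.smulMod A Z a)).app U (QCoh.tmS Z M s t) =
      QCoh.tmS Z M ((Formal.smulMod A Z a).app U s) t :=
    KFlatLib.tmSh_naturality_left (Formal.smulMod A Z a) M (U := U) s t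
  refine h1.trans ?_
  rw [FFun.smulMod_app]
  exact QCoh.tmS_smul_left Z M _ s t

/-- `hom M` commutes with scalars. -/
theorem hom_map_smulMod (M N : X.Modules) (a : A) :
    (hom M).map (Formal.smulMod A N a) = Formal.smulMod A ((hom M).obj N) a := by
  refine hom_ext ?_
  rw [Adjunction.homEquiv_counit, Adjunction.homEquiv_counit, ten_map_smulMod]
  exact ((adj M).counit.naturality (Formal.smulMod A N a)).trans
    (FFun.smulMod_naturality ((adj M).counit.app N) a).symm

/-- On an affine open, the sections killed by `N → N/JN` are those in `J N`. -/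
theorem app_cokernel_eq_zero {N : X.Modules} (hN : Coh.IsQCoh N) (J : Ideal A) {W : X.Opens}
    (hW : IsAffineOpen W) (s : Γ(N, W)) :
    letI := QCoh.secModule (Coh.toGlobal (X ↘ Spec (CommRingCat.of A))) N W
    (cokernel.π (Formal.smulFamily J N)).app W s = 0 → s ∈ J • (⊤ : Submodule A Γ(N, W)) := by
  letI := QCoh.secModule (Coh.toGlobal (X ↘ Spec (CommRingCat.of A))) N W
  intro hs
  have h1 : (QCoh.quotHom N J).app W s = 0 := by
    refine (congr(($(cokernel.π_desc (Formal.smulFamily J N) (QCoh.quotHom N J) (QCoh.smulFamily_quotHom N J))).app W s)).symm.trans ?_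
    exact (congrArg ((cokernel.desc (Formal.smulFamily J N) (QCoh.quotHom N J) (QCoh.smulFamily_quotHom N J)).app W) hs).trans (map_zero _)
  rw [QCoh.homOfElem_app] at h1
  have h2 := (QCoh.bijective_tauA N hN (ModuleCat.of A (A ⧸ J)) hW).1 (h1.trans (map_zero _).symm)
  have h3 := congrArg (TensorProduct.tensorQuotEquivQuotSMul Γ(N, W) J) h2
  rw [TensorProduct.tensorQuotEquivQuotSMul_tmul_mk, map_zero, one_smul, Submodule.Quotient.mk_eq_zero] at h3
  exact h3

end Groth.Agent.SheafHomX
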