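import Groth.Agent.SheafHomX.Local
import Groth.Agent.Algz7.Completion
import Groth.Agent.Algz7.CohFormal
import Groth.Agent.InvX.GenEpi
import Mathlib.AlgebraicGeometry.Noetherian

/-!
# Morphisms of completions of coherent modules come from morphisms of modules
-/

set_option linter.style.haveILetI false
set_option backward.isDefEq.respectTransparency false
set_option backward.isDefEq.respectTransparency.types false

universe u

open CategoryTheory CategoryTheory.Limits AlgebraicGeometry Opposite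

namespace Groth.Agent.SheafHomX

open Groth.Agent

variable {A : Type u} [CommRing A] {X : Scheme.{u}} [X.Over (Spec (CommRingCat.of A))]

theorem eq_zero_of_restrict {ι : Type*} {Y : ι → Scheme.{u}} (j : ∀ i, Y i ⟶ X) [∀ i, IsOpenImmersion (j i)]
    (hcov : ∀ x : X, ∃ i, x ∈ Set.range (j i).base) {S T : X.Modules} (f : S ⟶ T)
    (h : ∀ i, (Scheme.Modules.restrictFunctor (j i)).map f = 0) : f = 0 := by
  refine Scheme.Modules.hom_ext _ _ fun W => ?_
  ext s
  refine (?_ : f.app W s = 0).trans rfl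
  refine QCoh.eq_zero_of_locally W _ fun q hq => ?_
  obtain ⟨i, q', rfl⟩ := hcov q
  refine ⟨j i ''ᵁ (j i ⁻¹ᵁ W), homOfLE ((j i).image_preimage_le W), ⟨q', hq, rfl⟩, ?_⟩
  rw [← QCoh.map_app_comm]
  exact congr(($(h i)).app (j i ⁻¹ᵁ W) _)

/-- Factor a map killed by `J` through the quotient. -/
theorem exists_desc {S T : X.Modules} (I : Ideal A) (n : ℕ) (φ : S ⟶ T)
    (h : ∀ a ∈ I ^ n, Formal.smulMod A S a ≫ φ = 0) :
    ∃ ψ : Formal.modPow I n S ⟶ T, Formal.modPowπ I n S ≫ ψ = φ :=
  ⟨cokernel.desc _ φ (Sigma.hom_ext _ _ fun a => by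
    rw [comp_zero, Formal.smulFamily, Sigma.ι_desc_assoc]
    exact h a.1 a.2), cokernel.π_desc _ _ _⟩

section Chart

variable {Y : Scheme.{u}} [Y.Over (Spec (CommRingCat.of A))] (j : Y ⟶ X) [IsOpenImmersion j]
  (hj : j ≫ (X ↘ Spec (CommRingCat.of A)) = Y ↘ Spec (CommRingCat.of A))


include hj in
theorem exists_back (I : Ideal A) (n : ℕ) (S : X.Modules) :
    ∃ b : Formal.modPow I n ((Scheme.Modules.restrictFunctor j).obj S) ⟶ (Scheme.Modules.restrictFunctor j).obj (Formal.modPow I n S),
      Formal.modPowπ I n ((Scheme.Modules.restrictFunctor j).obj S) ≫ b = (Scheme.Modules.restrictFunctor j).map (Formal.modPowπ I n S) :=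
  exists_desc I n _ fun a ha => by
    rw [← Algz7.restrict_smulMod j hj, ← Functor.map_comp]
    exact (congrArg (Scheme.Modules.restrictFunctor j).map (Algz7.smulMod_comp_eq_zero (cokernel.condition (Formal.smulFamily (I ^ n) S)) ha)).trans
      (Functor.map_zero _ _ _)

include hj in
theorem exists_forth (I : Ideal A) (n : ℕ) (S : X.Modules) :
    ∃ e : (Scheme.Modules.restrictFunctor j).obj (Formal.modPow I n S) ⟶ Formal.modPow I n ((Scheme.Modules.restrictFunctor j).obj S),
      (Scheme.Modules.restrictFunctor j).map (Formal.modPowπ I n S) ≫ e = Formal.modPowπ I n ((Scheme.Modules.restrictFunctor j).obj S) :=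
  (Algz7.IsQuot.restrict j hj (Algz7.isQuot_modPowπ I n S)).desc _ (cokernel.condition _)

include hj in
theorem restrict_ker_le [IsAffine Y] [IsLocallyNoetherian Y] (I : Ideal A) {M N : X.Modules}
    (hM : Coh.IsCoh M) (hN : Coh.IsCoh N) (m : ℕ) :
    ∃ k₀, ∀ k, k₀ ≤ k → (Scheme.Modules.restrictFunctor j).map (kernel.ι ((hom M).map (Formal.modPowπ I k N)) ≫
      Formal.modPowπ I m ((hom M).obj N)) = 0 := by
  obtain ⟨k₀, hk₀⟩ := exists_ker_le I (isCoh_restrict j hM) (isCoh_restrict j hN) m
  refine ⟨k₀, fun k hk => ?_⟩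
  let ρ : (Scheme.Modules.restrictFunctor j).obj ((hom M).obj N) ≅ (hom ((Scheme.Modules.restrictFunctor j).obj M)).obj ((Scheme.Modules.restrictFunctor j).obj N) := (restrictIso j M).app N
  obtain ⟨e, he⟩ := exists_forth j hj I k N
  obtain ⟨ψ, hψ⟩ := exists_desc I m (ρ.inv ≫ (Scheme.Modules.restrictFunctor j).map (Formal.modPowπ I m ((hom M).obj N))) (fun a ha => by
    rw [← Category.assoc, FFun.smulMod_naturality, Category.assoc, ← Algz7.restrict_smulMod j hj, ← Functor.map_comp]
    exact (congrArg (ρ.inv ≫ ·) ((congrArg (Scheme.Modules.restrictFunctor j).map (Algz7.smulMod_comp_eq_zero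
      (cokernel.condition (Formal.smulFamily (I ^ m) ((hom M).obj N))) ha)).trans (Functor.map_zero _ _ _))).trans comp_zero)
  have hg : ((Scheme.Modules.restrictFunctor j).map (kernel.ι ((hom M).map (Formal.modPowπ I k N))) ≫ ρ.hom) ≫
      (hom ((Scheme.Modules.restrictFunctor j).obj M)).map (Formal.modPowπ I k ((Scheme.Modules.restrictFunctor j).obj N)) = 0 := by
    rw [← he, Functor.map_comp, Category.assoc, ← Category.assoc ρ.hom,
      ← show _ = ρ.hom ≫ _ from restrict_map j M (Formal.modPowπ I k N), ← Category.assoc,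
      ← Category.assoc, ← Functor.map_comp, kernel.condition, Functor.map_zero, zero_comp, zero_comp]
  have h0 := hk₀ k hk
  have h1 : ((Scheme.Modules.restrictFunctor j).map (kernel.ι ((hom M).map (Formal.modPowπ I k N))) ≫ ρ.hom) ≫
      Formal.modPowπ I m ((hom ((Scheme.Modules.restrictFunctor j).obj M)).obj ((Scheme.Modules.restrictFunctor j).obj N)) = 0 := by
    rw [← kernel.lift_ι _ _ hg, Category.assoc]
    exact (congrArg (kernel.lift _ _ hg ≫ ·) h0).trans comp_zero
  have h2 : (Scheme.Modules.restrictFunctor j).map (Formal.modPowπ I m ((hom M).obj N)) =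
      ρ.hom ≫ Formal.modPowπ I m ((hom ((Scheme.Modules.restrictFunctor j).obj M)).obj ((Scheme.Modules.restrictFunctor j).obj N)) ≫ ψ :=
    ((congrArg (ρ.hom ≫ ·) hψ).trans (ρ.hom_inv_id_assoc _)).symm
  rw [Functor.map_comp, h2, ← Category.assoc, ← Category.assoc, h1, zero_comp]

include hj in
theorem restrict_lift [IsAffine Y] [IsLocallyNoetherian Y] (I : Ideal A) {M N : X.Modules}
    (hM : Coh.IsCoh M) (hN : Coh.IsCoh N) (n : ℕ) :
    ∃ k₀, ∀ k, k₀ ≤ k → ∀ t : Formal.modPow I k N ⟶ Formal.modPow I n N,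
      Formal.modPowπ I k N ≫ t = Formal.modPowπ I n N →
        (Scheme.Modules.restrictFunctor j).map ((hom M).map t ≫ cokernel.π ((hom M).map (Formal.modPowπ I n N))) = 0 := by
  obtain ⟨k₀, hk₀⟩ := exists_lift I (isCoh_restrict j hM) (isCoh_restrict j hN) n
  refine ⟨k₀, fun k hk t ht => ?_⟩
  obtain ⟨ek, hek⟩ := exists_forth j hj I k N
  obtain ⟨bk, hbk⟩ := exists_back j hj I k N
  obtain ⟨en, hen⟩ := exists_forth j hj I n N
  obtain ⟨bn, hbn⟩ := exists_back j hj I n N
  let H' := hom ((Scheme.Modules.restrictFunctor j).obj M)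
  let t' := bk ≫ (Scheme.Modules.restrictFunctor j).map t ≫ en
  have ht' : Formal.modPowπ I k ((Scheme.Modules.restrictFunctor j).obj N) ≫ t' = Formal.modPowπ I n ((Scheme.Modules.restrictFunctor j).obj N) := by
    rw [← Category.assoc, hbk, ← Category.assoc, ← Functor.map_comp, ht, hen]
  haveI : Epi ((Scheme.Modules.restrictFunctor j).map (Formal.modPowπ I k N)) :=
    (Algz7.IsQuot.restrict j hj (Algz7.isQuot_modPowπ I k N)).epi
  haveI : Epi ((Scheme.Modules.restrictFunctor j).map (Formal.modPowπ I n N)) :=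
    (Algz7.IsQuot.restrict j hj (Algz7.isQuot_modPowπ I n N)).epi
  have hid : ∀ {Z : Y.Modules} (g : (Scheme.Modules.restrictFunctor j).obj (Formal.modPow I k N) ⟶ Z), ek ≫ bk ≫ g = g := fun g => by
    refine (cancel_epi ((Scheme.Modules.restrictFunctor j).map (Formal.modPowπ I k N))).1 ?_
    rw [← Category.assoc, hek, ← Category.assoc, hbk]
  have hid' : en ≫ bn = 𝟙 _ := by
    refine (cancel_epi ((Scheme.Modules.restrictFunctor j).map (Formal.modPowπ I n N))).1 ?_
    rw [← Category.assoc, hen, hbn, Category.comp_id]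
  have hRt : (Scheme.Modules.restrictFunctor j).map t = ek ≫ t' ≫ bn := by
    rw [Category.assoc, Category.assoc, hid', Category.comp_id, hid]
  let ρk : (Scheme.Modules.restrictFunctor j).obj ((hom M).obj (Formal.modPow I k N)) ≅ H'.obj ((Scheme.Modules.restrictFunctor j).obj (Formal.modPow I k N)) :=
    (restrictIso j M).app _
  let ρn : (Scheme.Modules.restrictFunctor j).obj ((hom M).obj (Formal.modPow I n N)) ≅ H'.obj ((Scheme.Modules.restrictFunctor j).obj (Formal.modPow I n N)) :=
    (restrictIso j M).app _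
  let ρ : (Scheme.Modules.restrictFunctor j).obj ((hom M).obj N) ≅ H'.obj ((Scheme.Modules.restrictFunctor j).obj N) := (restrictIso j M).app N
  have hc : H'.map (Formal.modPowπ I n ((Scheme.Modules.restrictFunctor j).obj N)) ≫
      H'.map bn ≫ ρn.inv ≫ (Scheme.Modules.restrictFunctor j).map (cokernel.π ((hom M).map (Formal.modPowπ I n N))) = 0 := by
    rw [← Category.assoc, ← Functor.map_comp, hbn]
    have h1 : H'.map ((Scheme.Modules.restrictFunctor j).map (Formal.modPowπ I n N)) ≫ ρn.inv = ρ.inv ≫ (Scheme.Modules.restrictFunctor j).map ((hom M).map (Formal.modPowπ I n N)) := by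
      rw [Iso.comp_inv_eq, Category.assoc, Iso.eq_inv_comp]
      exact (restrict_map j M (Formal.modPowπ I n N)).symm
    rw [← Category.assoc, h1, Category.assoc, ← Functor.map_comp, cokernel.condition, Functor.map_zero, comp_zero]
  have h2 : (Scheme.Modules.restrictFunctor j).map ((hom M).map t) = ρk.hom ≫ H'.map ((Scheme.Modules.restrictFunctor j).map t) ≫ ρn.inv := by
    rw [← Category.assoc, Iso.eq_comp_inv]
    exact restrict_map j M t
  rw [Functor.map_comp, h2, hRt, Functor.map_comp, Functor.map_comp]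
  simp only [Category.assoc]
  rw [← cokernel.π_desc _ _ hc, ← Category.assoc (H'.map t'), hk₀ k hk t' ht', zero_comp, comp_zero, comp_zero]

end Chart

theorem exists_bounds [IsNoetherian X] (I : Ideal A) {M N : X.Modules} (hM : Coh.IsCoh M)
    (hN : Coh.IsCoh N) (n : ℕ) :
    ∃ k₀, ∀ k, k₀ ≤ k → kernel.ι ((hom M).map (Formal.modPowπ I k N)) ≫ Formal.modPowπ I n ((hom M).obj N) = 0 ∧
      ∀ t : Formal.modPow I k N ⟶ Formal.modPow I n N, Formal.modPowπ I k N ≫ t = Formal.modPowπ I n N →
        (hom M).map t ≫ cokernel.π ((hom M).map (Formal.modPowπ I n N)) = 0 := by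
  let 𝒰 := X.affineCover.finiteSubcover
  haveI : Fintype 𝒰.I₀ := Fintype.ofFinite _
  have hloc : ∀ i, ∃ k₀, ∀ k, k₀ ≤ k →
      (Scheme.Modules.restrictFunctor (𝒰.f i)).map (kernel.ι ((hom M).map (Formal.modPowπ I k N)) ≫
        Formal.modPowπ I n ((hom M).obj N)) = 0 ∧
      ∀ t : Formal.modPow I k N ⟶ Formal.modPow I n N, Formal.modPowπ I k N ≫ t = Formal.modPowπ I n N →
        (Scheme.Modules.restrictFunctor (𝒰.f i)).map
          ((hom M).map t ≫ cokernel.π ((hom M).map (Formal.modPowπ I n N))) = 0 := fun i => by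
    letI : (𝒰.X i).Over (Spec (CommRingCat.of A)) := ⟨𝒰.f i ≫ (X ↘ Spec (CommRingCat.of A))⟩
    haveI : IsLocallyNoetherian (𝒰.X i) := LocallyOfFiniteType.isLocallyNoetherian (𝒰.f i)
    obtain ⟨a, ha⟩ := restrict_ker_le (𝒰.f i) rfl I hM hN n
    obtain ⟨b, hb⟩ := restrict_lift (𝒰.f i) rfl I hM hN n
    exact ⟨max a b, fun k hk => ⟨ha k (le_trans (le_max_left _ _) hk), hb k (le_trans (le_max_right _ _) hk)⟩⟩
  choose k₀ hk₀ using hloc
  have hcov : ∀ x : X, ∃ i, x ∈ Set.range (𝒰.f i).base := fun x => ⟨_, Scheme.Cover.covers 𝒰 x⟩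
  refine ⟨Finset.univ.sup k₀, fun k hk => ?_⟩
  have hi : ∀ i, k₀ i ≤ k := fun i => (Finset.le_sup (Finset.mem_univ i)).trans hk
  exact ⟨eq_zero_of_restrict _ hcov _ fun i => (hk₀ i k (hi i)).1,
    fun t ht => eq_zero_of_restrict _ hcov _ fun i => (hk₀ i k (hi i)).2 t ht⟩

/-- The class of a map out of the structure sheaf. -/
noncomputable def cls {F : X.Modules} (y : Coh.structureModule X ⟶ F) : Coh.HH X F 0 :=
  (Sheaf.H.equiv₀ (Coh.toAb F) isTerminalTop).symm (InvX.one y)

theorem map_cls {F G : X.Modules} (y : Coh.structureModule X ⟶ F) (g : F ⟶ G) :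
    Sheaf.H.map ((SheafOfModules.toSheaf _).map g) 0 (cls y) = cls (y ≫ g) :=
  Sheaf.H.equiv₀_symm_naturality isTerminalTop ((SheafOfModules.toSheaf _).map g) _

theorem cls_injective {F : X.Modules} : Function.Injective (cls (F := F)) := fun y y' h => by
  refine Scheme.Modules.hom_ext _ _ fun W => ?_
  ext r
  exact (InvX.app_eq_smul y r).trans ((congrArg (fun z => (show Γ(X, W) from r) • AModX.res F (le_top : W ≤ ⊤) z)
    ((Sheaf.H.equiv₀ (Coh.toAb F) isTerminalTop).symm.injective h)).trans (InvX.app_eq_smul y' r).symm)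

theorem cls_surjective {F : X.Modules} : Function.Surjective (cls (F := F)) := fun h =>
  ⟨InvX.ofSect (Sheaf.H.equiv₀ (Coh.toAb F) isTerminalTop h),
    (congrArg (Sheaf.H.equiv₀ (Coh.toAb F) isTerminalTop).symm (InvX.one_ofSect _)).trans
      (AddEquiv.symm_apply_apply _ _)⟩

/-- If the sections of `hom(M, N)` are complete, morphisms of completions are algebraic. -/
theorem existsUnique_of_bijective [IsNoetherian X] (I : Ideal A) {M N : X.Modules} (hM : Coh.IsCoh M)
    (hN : Coh.IsCoh N) (hbij : Function.Bijective (Formal.toHHlim I ((hom M).obj N) 0))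
    (ψ : Formal.completion I M ⟶ Formal.completion I N) :
    ∃! φ : M ⟶ N, ∀ n : ℕ, Formal.modPowπ I (n + 1) M ≫ ψ.app (op n) = φ ≫ Formal.modPowπ I (n + 1) N := by
  let H := (hom M).obj N
  let h : ∀ n, H ⟶ (hom M).obj (Formal.modPow I (n + 1) N) := fun n =>
    (hom M).map (Formal.modPowπ I (n + 1) N)
  have hepi : ∀ (S : X.Modules) n, Epi (Formal.modPowπ I n S) := fun S n => inferInstanceAs (Epi (cokernel.π _))
  let x : ∀ n, Coh.structureModule X ⟶ (hom M).obj (Formal.modPow I (n + 1) N) := fun n =>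
    (ev M _).symm (Formal.modPowπ I (n + 1) M ≫ ψ.app (op n))
  have hstep : ∀ n, x (n + 1) ≫ (hom M).map (Formal.modPowTrans I (n + 1) N) = x n := fun n => by
    apply (ev M _).injective
    rw [ev_naturality, AddEquiv.apply_symm_apply, AddEquiv.apply_symm_apply, Category.assoc]
    have hnat := ψ.naturality (homOfLE (Nat.le_succ n)).op
    rw [Algz7.completion_map_succ, Algz7.completion_map_succ] at hnat
    exact (congrArg (Formal.modPowπ I (n + 1 + 1) M ≫ ·) hnat.symm).trans
      ((Category.assoc _ _ _).symm.trans (congrArg (· ≫ ψ.app (op n)) (Formal.modPowπ_trans I (n + 1) M)))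
  have hx : ∀ d n (t : Formal.modPow I (n + d + 1) N ⟶ Formal.modPow I (n + 1) N),
      Formal.modPowπ I (n + d + 1) N ≫ t = Formal.modPowπ I (n + 1) N →
        x (n + d) ≫ (hom M).map t = x n := by
    intro d
    induction d with
    | zero =>
      intro n t ht
      haveI := hepi N (n + 0 + 1)
      obtain rfl : t = 𝟙 _ := (cancel_epi (Formal.modPowπ I (n + 0 + 1) N)).1 (ht.trans (Category.comp_id _).symm)
      rw [CategoryTheory.Functor.map_id, Category.comp_id]
      rfl
    | succ d ih =>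
      intro n t ht
      have hle : I ^ (n + d + 1) ≤ I ^ (n + 1) := Ideal.pow_le_pow_right (by omega)
      obtain ⟨u, hu⟩ := exists_desc I (n + d + 1) (Formal.modPowπ I (n + 1) N) fun a ha =>
        Algz7.smulMod_comp_eq_zero (cokernel.condition (Formal.smulFamily (I ^ (n + 1)) N)) (hle ha)
      haveI := hepi N (n + (d + 1) + 1)
      obtain rfl : t = Formal.modPowTrans I (n + d + 1) N ≫ u :=
        (cancel_epi (Formal.modPowπ I (n + (d + 1) + 1) N)).1 (ht.trans (by
          rw [← hu, ← Formal.modPowπ_trans I (n + d + 1) N, Category.assoc]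
          rfl))
      rw [Functor.map_comp, ← Category.assoc]
      exact (congrArg (· ≫ (hom M).map u) (hstep (n + d))).trans (ih n u hu)
  have htr : ∀ n k, n ≤ k → ∃ t : Formal.modPow I (k + 1) N ⟶ Formal.modPow I (n + 1) N,
      Formal.modPowπ I (k + 1) N ≫ t = Formal.modPowπ I (n + 1) N ∧ x k ≫ (hom M).map t = x n := by
    intro n k hnk
    obtain ⟨d, rfl⟩ := Nat.exists_eq_add_of_le hnk
    obtain ⟨t, ht⟩ := exists_desc I (n + d + 1) (Formal.modPowπ I (n + 1) N) fun a ha =>
      Algz7.smulMod_comp_eq_zero (cokernel.condition (Formal.smulFamily (I ^ (n + 1)) N))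
        (Ideal.pow_le_pow_right (show n + 1 ≤ n + d + 1 by omega) ha)
    exact ⟨t, ht, hx d n t ht⟩
  choose K hK using fun n => exists_bounds I hM hN (n + 1)
  have hzc : ∀ n, x n ≫ cokernel.π (h n) = 0 := fun n => by
    obtain ⟨t, ht, hxt⟩ := htr n (max (K n) n) (le_max_right _ _)
    rw [← hxt, Category.assoc, (hK n _ (le_trans (le_max_left _ _) (Nat.le_succ _))).2 t ht, comp_zero]
  let z : ∀ n, Coh.structureModule X ⟶ Abelian.image (h n) := fun n => kernel.lift _ (x n) (hzc n)
  have hz : ∀ n, z n ≫ Abelian.image.ι (h n) = x n := fun n => kernel.lift_ι _ _ _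
  have hd : ∀ m k, K m ≤ k + 1 → ∃ d : Abelian.image (h k) ⟶ Formal.modPow I (m + 1) H,
      Abelian.factorThruImage (h k) ≫ d = Formal.modPowπ I (m + 1) H := fun m k hk => by
    have hcond : kernel.ι (Abelian.factorThruImage (h k)) ≫ Formal.modPowπ I (m + 1) H = 0 := by
      have e : kernel.ι (Abelian.factorThruImage (h k)) ≫ h k = 0 :=
        (congrArg (kernel.ι (Abelian.factorThruImage (h k)) ≫ ·) (Abelian.image.fac (h k)).symm).trans
          ((Category.assoc _ _ _).symm.trans ((congrArg (· ≫ Abelian.image.ι (h k)) (kernel.condition _)).trans zero_comp))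
      rw [← kernel.lift_ι (h k) _ e, Category.assoc]
      exact (congrArg (kernel.lift (h k) _ e ≫ ·) (hK m (k + 1) hk).1).trans comp_zero
    exact ⟨Abelian.epiDesc _ _ hcond, Abelian.comp_epiDesc _ _ hcond⟩
  have hindep : ∀ m k k' (d : Abelian.image (h k) ⟶ Formal.modPow I (m + 1) H)
      (d' : Abelian.image (h k') ⟶ Formal.modPow I (m + 1) H),
      Abelian.factorThruImage (h k) ≫ d = Formal.modPowπ I (m + 1) H →
      Abelian.factorThruImage (h k') ≫ d' = Formal.modPowπ I (m + 1) H → k ≤ k' → z k ≫ d = z k' ≫ d' := by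
    intro m k k' d d' hd hd' hkk
    obtain ⟨t, ht, hxt⟩ := htr k k' hkk
    have hh : h k' ≫ (hom M).map t = h k := ((hom M).map_comp _ _).symm.trans (congrArg (hom M).map ht)
    have e : kernel.ι (Abelian.factorThruImage (h k')) ≫ Abelian.factorThruImage (h k) = 0 := by
      have e1 : kernel.ι (Abelian.factorThruImage (h k')) ≫ h k' = 0 :=
        (congrArg (kernel.ι (Abelian.factorThruImage (h k')) ≫ ·) (Abelian.image.fac (h k')).symm).trans
          ((Category.assoc _ _ _).symm.trans ((congrArg (· ≫ Abelian.image.ι (h k')) (kernel.condition _)).trans zero_comp))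
      rw [← cancel_mono (Abelian.image.ι (h k)), zero_comp, Category.assoc, Abelian.image.fac, ← hh,
        ← Category.assoc, e1, zero_comp]
    let w := Abelian.epiDesc _ _ e
    have hw : Abelian.factorThruImage (h k') ≫ w = Abelian.factorThruImage (h k) := Abelian.comp_epiDesc _ _ e
    have hwι : w ≫ Abelian.image.ι (h k) = Abelian.image.ι (h k') ≫ (hom M).map t := by
      rw [← cancel_epi (Abelian.factorThruImage (h k')), ← Category.assoc, hw, Abelian.image.fac, ← Category.assoc,
        Abelian.image.fac, hh]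
    have hzw : z k' ≫ w = z k := by
      rw [← cancel_mono (Abelian.image.ι (h k)), Category.assoc, hwι, ← Category.assoc, hz, hxt, hz]
    have hdw : w ≫ d = d' := by
      rw [← cancel_epi (Abelian.factorThruImage (h k')), ← Category.assoc, hw, hd, hd']
    rw [← hzw, Category.assoc, hdw]
  choose D hD using hd
  let y : ∀ m, Coh.structureModule X ⟶ Formal.modPow I (m + 1) H := fun m => z (K m) ≫ D m (K m) (Nat.le_succ _)
  have hy : ∀ m k (hk : K m ≤ k + 1), K m ≤ k → y m = z k ≫ D m k hk := fun m k hk hle =>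
    hindep m (K m) k _ _ (hD m (K m) _) (hD m k hk) hle
  have hcompat : ∀ m, y (m + 1) ≫ Formal.modPowTrans I (m + 1) H = y m := fun m => by
    let k := max (K m) (K (m + 1))
    have hkm : K m ≤ k := le_max_left _ _
    have hkm' : K (m + 1) ≤ k := le_max_right _ _
    rw [hy m k (hkm.trans (Nat.le_succ _)) hkm, hy (m + 1) k (hkm'.trans (Nat.le_succ _)) hkm', Category.assoc]
    refine congrArg (z k ≫ ·) ?_
    rw [← cancel_epi (Abelian.factorThruImage (h k)), hD, ← Category.assoc, hD]
    exact Formal.modPowπ_trans I (m + 1) H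
  obtain ⟨c, hc⟩ := hbij.2 ⟨fun m => cls (y m), fun m => (map_cls _ _).trans (congrArg cls (hcompat m))⟩
  obtain ⟨x₀, rfl⟩ := cls_surjective c
  have hx₀ : ∀ m, x₀ ≫ Formal.modPowπ I (m + 1) H = y m := fun m =>
    cls_injective ((map_cls _ _).symm.trans (congrFun (congrArg Subtype.val hc) m))
  have hx₀h : ∀ n, x₀ ≫ h n = x n := fun n => by
    obtain ⟨u, hu⟩ := exists_desc I (n + 1) (h n) fun a ha => by
      rw [← hom_map_smulMod, ← Functor.map_comp]
      exact (congrArg (hom M).map (Algz7.smulMod_comp_eq_zero (cokernel.condition (Formal.smulFamily (I ^ (n + 1)) N)) ha)).trans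
        (Functor.map_zero _ _ _)
    let k := max (K n) n
    have hkn : K n ≤ k := le_max_left _ _
    obtain ⟨t, ht, hxt⟩ := htr n k (le_max_right _ _)
    have hh : h k ≫ (hom M).map t = h n := ((hom M).map_comp _ _).symm.trans (congrArg (hom M).map ht)
    have e : D n k (hkn.trans (Nat.le_succ _)) ≫ u = Abelian.image.ι (h k) ≫ (hom M).map t := by
      rw [← cancel_epi (Abelian.factorThruImage (h k)), ← Category.assoc, hD, ← Category.assoc, Abelian.image.fac, hh]
      exact hu
    rw [← hu, ← Category.assoc]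
    refine (congrArg (· ≫ u) ((hx₀ n).trans (hy n k (hkn.trans (Nat.le_succ _)) hkn))).trans ?_
    rw [Category.assoc, e, ← Category.assoc, hz, hxt]
  refine ⟨ev M N x₀, fun n => ?_, fun φ hφ => ?_⟩
  · rw [← ev_naturality]
    exact ((congrArg (ev M _) (hx₀h n)).trans (AddEquiv.apply_symm_apply _ _)).symm
  · obtain ⟨x₁, rfl⟩ : ∃ x₁, ev M N x₁ = φ := ⟨_, AddEquiv.apply_symm_apply _ φ⟩
    refine congrArg _ ?_
    have hx₁ : ∀ n, (x₁ - x₀) ≫ h n = 0 := fun n => by
      apply (ev M _).injective
      rw [map_zero, ev_naturality, map_sub, Preadditive.sub_comp, ← hφ n, sub_eq_zero, ← ev_naturality, hx₀h n]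
      exact (AddEquiv.apply_symm_apply _ _).symm
    rw [← sub_eq_zero]
    apply cls_injective
    apply hbij.1
    refine Subtype.ext (funext fun m => ?_)
    have e : (x₁ - x₀) ≫ Formal.modPowπ I (m + 1) H = 0 := by
      rw [← kernel.lift_ι _ _ (hx₁ (K m)), Category.assoc]
      exact (congrArg (kernel.lift _ _ (hx₁ (K m)) ≫ ·) (hK m (K m + 1) (Nat.le_succ _)).1).trans comp_zero
    have e0 : (0 : Coh.structureModule X ⟶ H) ≫ Formal.modPowπ I (m + 1) H = 0 := zero_comp
    exact (map_cls _ _).trans ((congrArg cls (e.trans e0.symm)).trans (map_cls _ _).symm)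

end Groth.Agent.SheafHomX
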