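import Groth.Agent.SheafHomX.Main
import Groth.Agent.KFlatLib.Perfect.LocFree

/-!
# Torsion and locally free variants of full faithfulness of completion
-/

set_option linter.style.haveILetI false
set_option backward.isDefEq.respectTransparency false
set_option backward.isDefEq.respectTransparency.types false

universe u

open CategoryTheory CategoryTheory.Limits AlgebraicGeometry Opposite MonoidalCategory

namespace Groth.Agent.SheafHomX

open Groth.Agent

attribute [local instance] QCoh.hasFiniteBiproducts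

variable {A : Type u} [CommRing A] {X : Scheme.{u}} [X.Over (Spec (CommRingCat.of A))]

/-- `hom(-, N)` commutes with scalars. -/
theorem homMap_smulMod (M N : X.Modules) (a : A) :
    (homMap (Formal.smulMod A M a)).app N = Formal.smulMod A ((hom M).obj N) a := by
  refine hom_ext ?_
  have h := homEquiv_homMap (Formal.smulMod A M a) (𝟙 ((hom M).obj N))
  rw [Category.id_comp] at h
  rw [h]
  have e : ((DCoh.tensorBi (X := X)).flip.map (Formal.smulMod A M a)).app ((hom M).obj N) =
      (ten M).map (Formal.smulMod A ((hom M).obj N) a) := by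
    rw [ten_map_smulMod]
    refine tensor_hom_ext (M := (hom M).obj N) (N := M) fun U s t => ?_
    refine (KFlatLib.tmSh_naturality_right ((hom M).obj N) (Formal.smulMod A M a) (U := U) s t).trans ?_
    exact (QCoh.tmS_smul_right ((hom M).obj N) M _ s t).trans rfl
  rw [e, Adjunction.homEquiv_counit, Adjunction.homEquiv_counit, CategoryTheory.Functor.map_id, Category.id_comp]

theorem killedBy_hom {J : Ideal A} {M N : X.Modules} (h : Formal.KilledBy J M ∨ Formal.KilledBy J N) :
    Formal.KilledBy J ((hom M).obj N) := fun a ha => by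
  rcases h with h | h
  · rw [← homMap_smulMod, h a ha, homMap_zero]
  · rw [← hom_map_smulMod, h a ha, Functor.map_zero]

/-- A module killed by a power of `I` has all high `M → M/I^nM` invertible. -/
theorem isIso_modPowπ {I : Ideal A} {c n : ℕ} {H : X.Modules} (h : Formal.KilledBy (I ^ c) H) (hn : c ≤ n) :
    IsIso (Formal.modPowπ I n H) := by
  obtain ⟨u, hu⟩ := exists_desc I n (𝟙 H) fun a ha => by
    rw [Category.comp_id]
    exact h a (Ideal.pow_le_pow_right hn ha)
  haveI : Epi (Formal.modPowπ I n H) := inferInstanceAs (Epi (cokernel.π _))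
  exact ⟨u, hu, by rw [← cancel_epi (Formal.modPowπ I n H), ← Category.assoc, hu, Category.id_comp, Category.comp_id]⟩

theorem bijective_toHHlim_of_killedBy {I : Ideal A} {c : ℕ} {H : X.Modules} (h : Formal.KilledBy (I ^ c) H) (p : ℕ) :
    Function.Bijective (Formal.toHHlim I H p) := by
  haveI := fun n (hn : c ≤ n) => isIso_modPowπ h hn
  have hb : ∀ n, c ≤ n + 1 → Function.Bijective (Formal.toHHmodPow I H p n) := fun n hn => by
    haveI := isIso_modPowπ h hn
    exact ConcreteCategory.bijective_of_isIso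
      ((Sheaf.functorH (Opens.grothendieckTopology X.toPresheafedSpace.carrier) p).map
        ((SheafOfModules.toSheaf _).map (Formal.modPowπ I (n + 1) H)))
  refine ⟨fun x y hxy => (hb c (Nat.le_succ c)).1 (congrFun (congrArg Subtype.val hxy) c), fun x => ?_⟩
  obtain ⟨z, hz⟩ := (hb c (Nat.le_succ c)).2 (x.1 c)
  refine ⟨z, Subtype.ext (funext fun n => ?_)⟩
  have hz' : ∀ d, Formal.toHHmodPow I H p (c + d) z = x.1 (c + d) := by
    intro d
    induction d with
    | zero => exact hz
    | succ d ih =>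
      obtain ⟨z', hz'⟩ := (hb (c + (d + 1)) (by omega)).2 (x.1 (c + (d + 1)))
      have h1 := (Formal.toHHlim I H p z').2 (c + d)
      have h2 : Formal.HHmodPowTrans I H p (c + d) (x.1 (c + d + 1)) = x.1 (c + d) := x.2 (c + d)
      have h3 : Formal.toHHmodPow I H p (c + d) z' = x.1 (c + d) :=
        h1.symm.trans ((congrArg (Formal.HHmodPowTrans I H p (c + d)) hz').trans h2)
      rw [(hb (c + d) (by omega)).1 (ih.trans h3.symm)]
      exact hz'
  by_cases hn : c ≤ n
  · obtain ⟨d, rfl⟩ := Nat.exists_eq_add_of_le hn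
    exact hz' d
  · have hdown : ∀ d, ∀ m, m + d = c → Formal.toHHmodPow I H p m z = x.1 m := by
      intro d
      induction d with
      | zero => intro m hm; obtain rfl : m = c := hm; exact hz
      | succ d ih =>
        intro m hm
        have h1 := (Formal.toHHlim I H p z).2 m
        exact h1.symm.trans ((congrArg (Formal.HHmodPowTrans I H p m) (ih (m + 1) (by omega))).trans (x.2 m))
    exact hdown (c - n) n (by omega)

theorem isFinLocFree_hom {E E' : X.Modules} (hE : FlatMod.IsFinLocFree E) (hE' : FlatMod.IsFinLocFree E') :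
    FlatMod.IsFinLocFree ((hom E).obj E') := by
  intro x
  obtain ⟨U, a, hxU, ⟨e⟩⟩ := hE x
  obtain ⟨V, b, hxV, ⟨e'⟩⟩ := hE' x
  let W : X.Opens := U ⊓ V
  have eW : (E.restrict W.ι) ≅ FlatMod.freeMod W a := KFlatLib.restrictFreeIso inf_le_left e
  have eW' : (E'.restrict W.ι) ≅ FlatMod.freeMod W b := KFlatLib.restrictFreeIso inf_le_right e'
  let T : ULift.{u} (Fin a) → (W : Scheme.{u}).Modules := fun _ => Coh.structureModule W
  let T' : ULift.{u} (Fin b) → (W : Scheme.{u}).Modules := fun _ => Coh.structureModule W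
  let f : FlatMod.freeMod W a ≅ ⨁ T :=
    QCoh.freeModIso _ a ≪≫ (biproduct.isoCoproduct T).symm
  let f' : FlatMod.freeMod W b ≅ ⨁ T' :=
    QCoh.freeModIso _ b ≪≫ (biproduct.isoCoproduct T').symm
  let g : E.restrict W.ι ≅ ⨁ T := eW ≪≫ f
  let c : (hom (E.restrict W.ι)).obj (E'.restrict W.ι) ≅ (hom (⨁ T)).obj (E'.restrict W.ι) :=
    { hom := (homMap g.inv).app _
      inv := (homMap g.hom).app _
      hom_inv_id := by rw [← homMap_comp, Iso.hom_inv_id, homMap_id]
      inv_hom_id := by rw [← homMap_comp, Iso.inv_hom_id, homMap_id] }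
  let d : (hom (⨁ T)).obj (E'.restrict W.ι) ≅ ⨁ fun _ : ULift.{u} (Fin a) => E'.restrict W.ι :=
    homBiproductIso T _ ≪≫ biproduct.mapIso fun _ => (unitIso _).app _
  let q : (⨁ fun _ : ULift.{u} (Fin a) => E'.restrict W.ι) ≅ ∐ fun _ : ULift.{u} (Fin a) => FlatMod.freeMod W b :=
    biproduct.isoCoproduct _ ≪≫ Sigma.mapIso fun _ => eW'
  let s : (∐ fun _ : ULift.{u} (Fin a) => FlatMod.freeMod W b) ≅
      ∐ fun p : Σ _ : ULift.{u} (Fin a), ULift.{u} (Fin b) => Coh.structureModule W :=
    Sigma.mapIso (fun _ => QCoh.freeModIso _ b) ≪≫ sigmaSigmaIso (fun _ : ULift.{u} (Fin a) => ULift.{u} (Fin b)) (fun _ _ => Coh.structureModule W)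
  let r : (∐ fun p : Σ _ : ULift.{u} (Fin a), ULift.{u} (Fin b) => Coh.structureModule W) ≅ FlatMod.freeMod W (a * b) :=
    (Sigma.whiskerEquiv (f := fun _ : Σ _ : ULift.{u} (Fin a), ULift.{u} (Fin b) => Coh.structureModule W)
      (g := fun _ : ULift.{u} (Fin (a * b)) => Coh.structureModule W)
      (((Equiv.sigmaEquivProd _ _).trans (Equiv.prodCongr Equiv.ulift Equiv.ulift)).trans (finProdFinEquiv.trans Equiv.ulift.symm))
      (fun _ => Iso.refl _)) ≪≫ (QCoh.freeModIso _ (a * b)).symm
  exact ⟨W, a * b, ⟨hxU, hxV⟩, ⟨(restrictIso W.ι E).app E' ≪≫ c ≪≫ d ≪≫ q ≪≫ s ≪≫ r⟩⟩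

end Groth.Agent.SheafHomX
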