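import Groth.Agent.KFlatLib.Scheme.InnerHom
import Groth.Agent.KFlatLib.Scheme.ExtZero
import Groth.Agent.KFlatLib.Scheme.Flatness

/-!
# The sheaf of homomorphisms between modules: adjunction, global sections, restriction, left exactness
-/

set_option linter.style.haveILetI false
set_option backward.isDefEq.respectTransparency false

universe u

open CategoryTheory CategoryTheory.Limits AlgebraicGeometry

attribute [local instance] HasDerivedCategory.standard

namespace Groth.Agent.SheafHomX

open Groth.Agent

variable {X : Scheme.{u}}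

/-- `- ⊗ M`. -/
noncomputable abbrev ten (M : X.Modules) : X.Modules ⥤ X.Modules :=
  (DCoh.tensorBi (X := X)).flip.obj M

lemma isLeftAdjoint_ten (M : X.Modules) : (ten M).IsLeftAdjoint := by
  haveI : PreservesColimitsOfSize.{u, u} (ten M) := inferInstance
  haveI : WellPowered.{u} X.Modules := inferInstance
  exact isLeftAdjoint_of_preservesColimits_of_isSeparating
    (P := ObjectProperty.singleton (separator X.Modules)) (isSeparator_separator _) _

/-- `Hom(M, -)`, as a sheaf. -/
noncomputable def hom (M : X.Modules) : X.Modules ⥤ X.Modules :=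
  haveI := isLeftAdjoint_ten M
  (ten M).rightAdjoint

/-- The adjunction defining `hom M`. -/
noncomputable def adj (M : X.Modules) : ten M ⊣ hom M :=
  haveI := isLeftAdjoint_ten M
  Adjunction.ofIsLeftAdjoint (ten M)

instance additive_hom (M : X.Modules) : (hom M).Additive :=
  (adj M).right_adjoint_additive

/-- `O ⊗ M ≅ M`. -/
noncomputable def tenUnitIso (M : X.Modules) : (ten M).obj (Coh.structureModule X) ≅ M :=
  ((KFlatLib.tensorBiFlipIso X).app M).app (Coh.structureModule X) ≪≫
    (KFlatLib.tensorStructureIso X).app M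

/-- Sections of `hom M N` are morphisms `M ⟶ N`. -/
noncomputable def ev (M N : X.Modules) :
    (Coh.structureModule X ⟶ (hom M).obj N) ≃+ (M ⟶ N) where
  toFun x := (tenUnitIso M).inv ≫ ((adj M).homEquiv _ _).symm x
  invFun φ := (adj M).homEquiv _ _ ((tenUnitIso M).hom ≫ φ)
  left_inv x := by simp
  right_inv φ := by simp
  map_add' x y := by
    show (tenUnitIso M).inv ≫ ((adj M).homEquiv _ _).symm (x + y) =
      (tenUnitIso M).inv ≫ ((adj M).homEquiv _ _).symm x + (tenUnitIso M).inv ≫ ((adj M).homEquiv _ _).symm y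
    rw [Adjunction.homEquiv_counit, Adjunction.homEquiv_counit, Adjunction.homEquiv_counit,
      Functor.map_add, Preadditive.add_comp, Preadditive.comp_add]

lemma ev_naturality {M N N' : X.Modules} (x : Coh.structureModule X ⟶ (hom M).obj N) (g : N ⟶ N') :
    ev M N' (x ≫ (hom M).map g) = ev M N x ≫ g := by
  show (tenUnitIso M).inv ≫ ((adj M).homEquiv _ _).symm (x ≫ (hom M).map g) =
    ((tenUnitIso M).inv ≫ ((adj M).homEquiv _ _).symm x) ≫ g
  rw [Adjunction.homEquiv_naturality_right_symm, Category.assoc]

/-- Contravariance of `hom`. -/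
noncomputable def homMap {M M' : X.Modules} (g : M ⟶ M') : hom M' ⟶ hom M :=
  conjugateEquiv (adj M') (adj M) ((DCoh.tensorBi (X := X)).flip.map g)

lemma homEquiv_homMap {M M' : X.Modules} (g : M ⟶ M') {Z N : X.Modules} (a : Z ⟶ (hom M').obj N) :
    ((adj M).homEquiv Z N).symm (a ≫ (homMap g).app N) =
      ((DCoh.tensorBi (X := X)).flip.map g).app Z ≫ ((adj M').homEquiv Z N).symm a := by
  have h : (ten M).map ((homMap g).app N) ≫ (adj M).counit.app N =
      ((DCoh.tensorBi (X := X)).flip.map g).app ((hom M').obj N) ≫ (adj M').counit.app N :=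
    conjugateEquiv_counit _ _ _ N
  rw [Adjunction.homEquiv_counit, Adjunction.homEquiv_counit, Functor.map_comp, Category.assoc,
    h, ← Category.assoc]
  exact congrArg (· ≫ _) (((DCoh.tensorBi (X := X)).flip.map g).naturality a)

lemma hom_ext {M : X.Modules} {Z N : X.Modules} {a b : Z ⟶ (hom M).obj N}
    (h : ((adj M).homEquiv Z N).symm a = ((adj M).homEquiv Z N).symm b) : a = b :=
  ((adj M).homEquiv Z N).symm.injective h

lemma homMap_comp {M M' M'' : X.Modules} (f : M ⟶ M') (g : M' ⟶ M'') (N : X.Modules) :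
    (homMap (f ≫ g)).app N = (homMap g).app N ≫ (homMap f).app N := by
  refine hom_ext ?_
  have h := homEquiv_homMap (f ≫ g) (𝟙 ((hom M'').obj N))
  rw [Category.id_comp] at h
  have h' := homEquiv_homMap g (𝟙 ((hom M'').obj N))
  rw [Category.id_comp] at h'
  rw [h, homEquiv_homMap, h', Functor.map_comp, NatTrans.comp_app, Category.assoc]

lemma homMap_id (M N : X.Modules) : (homMap (𝟙 M)).app N = 𝟙 _ := by
  refine hom_ext ?_
  have h := homEquiv_homMap (𝟙 M) (𝟙 ((hom M).obj N))
  rw [Category.id_comp] at h
  rw [h, CategoryTheory.Functor.map_id, NatTrans.id_app, Category.id_comp]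

lemma homMap_add {M M' : X.Modules} (f g : M ⟶ M') (N : X.Modules) :
    (homMap (f + g)).app N = (homMap f).app N + (homMap g).app N := by
  refine hom_ext ?_
  have h := fun k : M ⟶ M' => homEquiv_homMap k (𝟙 ((hom M').obj N))
  simp only [Category.id_comp] at h
  have hadd : ∀ a b : (hom M').obj N ⟶ (hom M).obj N, ((adj M).homEquiv _ _).symm (a + b) =
      ((adj M).homEquiv _ _).symm a + ((adj M).homEquiv _ _).symm b := fun a b => by
    rw [Adjunction.homEquiv_counit, Adjunction.homEquiv_counit, Adjunction.homEquiv_counit,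
      Functor.map_add, Preadditive.add_comp]
  rw [h, hadd, h, h]
  have e : ((DCoh.tensorBi (X := X)).flip.map (f + g)).app ((hom M').obj N) =
      ((DCoh.tensorBi (X := X)).flip.map f).app ((hom M').obj N) +
      ((DCoh.tensorBi (X := X)).flip.map g).app ((hom M').obj N) :=
    ((DCoh.tensorBi (X := X)).obj ((hom M').obj N)).map_add
  rw [e, Preadditive.add_comp]

lemma homMap_zero (M M' N : X.Modules) : (homMap (0 : M ⟶ M')).app N = 0 := by
  have h := homMap_add (0 : M ⟶ M') 0 N
  rw [add_zero] at h
  exact left_eq_add.1 h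

/-- `hom O = id`. -/
noncomputable def unitIso (X : Scheme.{u}) : hom (Coh.structureModule X) ≅ 𝟭 X.Modules :=
  (adj (Coh.structureModule X)).rightAdjointUniq
    (Adjunction.id.ofNatIsoLeft (KFlatLib.tensorStructureIso X).symm)

/-- `hom` of a cokernel is a kernel. -/
theorem exists_kernel_iso {S : ShortComplex X.Modules} (hS : S.Exact) [Epi S.g] (N : X.Modules) :
    Nonempty ((hom S.X₃).obj N ≅ kernel ((homMap S.f).app N)) := by
  have hz : (homMap S.g).app N ≫ (homMap S.f).app N = 0 := by
    rw [← homMap_comp, S.zero, homMap_zero]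
  have hten : ∀ Z : X.Modules, (S.map ((DCoh.tensorBi (X := X)).obj Z)).Exact ∧
      Epi (((DCoh.tensorBi (X := X)).obj Z).map S.g) := fun Z => by
    haveI : PreservesColimitsOfSize.{u, u} ((DCoh.tensorBi (X := X)).obj Z) :=
      ⟨fun {K} _ => preservesColimitsOfShape_of_natIso ((KFlatLib.tensorBiFlipIso X).app Z)⟩
    haveI : PreservesFiniteColimits ((DCoh.tensorBi (X := X)).obj Z) :=
      PreservesColimitsOfSize.preservesFiniteColimits _
    exact ⟨hS.map_of_epi_of_preservesCokernel _ inferInstance inferInstance,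
      ((DCoh.tensorBi (X := X)).obj Z).map_epi S.g⟩
  have hmono : Mono ((homMap S.g).app N) := Preadditive.mono_of_cancel_zero _ fun {Z} a ha => by
    haveI : Epi (((DCoh.tensorBi (X := X)).obj Z).map S.g) := (hten Z).2
    have h1 : ((adj S.X₂).homEquiv Z N).symm (a ≫ (homMap S.g).app N) = 0 := by
      rw [ha, Adjunction.homEquiv_counit, Functor.map_zero, zero_comp]
    rw [homEquiv_homMap] at h1
    refine hom_ext ?_
    rw [Adjunction.homEquiv_counit, Adjunction.homEquiv_counit, Functor.map_zero, zero_comp,
      ← Adjunction.homEquiv_counit]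
    exact (cancel_epi (((DCoh.tensorBi (X := X)).obj Z).map S.g)).1 (h1.trans comp_zero.symm)
  refine ⟨IsLimit.conePointUniqueUpToIso (s := KernelFork.ofι _ hz)
    (KernelFork.IsLimit.ofι' _ hz fun {Z} a ha => ?_) (limit.isLimit _)⟩
  haveI : Epi (S.map ((DCoh.tensorBi (X := X)).obj Z)).g := (hten Z).2
  have hb : (S.map ((DCoh.tensorBi (X := X)).obj Z)).f ≫ ((adj S.X₂).homEquiv Z N).symm a = 0 := by
    have h := homEquiv_homMap S.f a
    rw [show a ≫ (homMap S.f).app N = 0 from ha, Adjunction.homEquiv_counit, Functor.map_zero,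
      zero_comp] at h
    exact h.symm
  refine ⟨(adj S.X₃).homEquiv Z N ((hten Z).1.desc _ hb), hom_ext ?_⟩
  rw [homEquiv_homMap, Equiv.symm_apply_apply]
  exact (hten Z).1.g_desc _ hb

section Restrict

variable {U : Scheme.{u}} (j : U ⟶ X) [IsOpenImmersion j]

/-- The projection formula with `M` fixed. -/
noncomputable def projTen (M : X.Modules) :
    KFlatLib.lsh j ⋙ ten M ≅ ten ((Scheme.Modules.restrictFunctor j).obj M) ⋙ KFlatLib.lsh j :=
  NatIso.ofComponents (fun N => (((KFlatLib.projIso j).app N).app M).symm)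
    (fun {N N'} g => by
      have h := congr_app ((KFlatLib.projIso j).inv.naturality g) M
      exact h)

/-- `hom` commutes with restriction to opens. -/
noncomputable def restrictIso (M : X.Modules) :
    hom M ⋙ Scheme.Modules.restrictFunctor j ≅
      Scheme.Modules.restrictFunctor j ⋙ hom ((Scheme.Modules.restrictFunctor j).obj M) :=
  (((KFlatLib.lshAdj j).comp (adj M)).ofNatIsoLeft (projTen j M)).rightAdjointUniq
    ((adj ((Scheme.Modules.restrictFunctor j).obj M)).comp (KFlatLib.lshAdj j))

lemma restrict_map (M : X.Modules) {N N' : X.Modules} (g : N ⟶ N') :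
    (Scheme.Modules.restrictFunctor j).map ((hom M).map g) ≫ (restrictIso j M).hom.app N' =
      (restrictIso j M).hom.app N ≫
        (hom ((Scheme.Modules.restrictFunctor j).obj M)).map ((Scheme.Modules.restrictFunctor j).map g) :=
  (restrictIso j M).hom.naturality g

end Restrict

end Groth.Agent.SheafHomX
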