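import Groth.Agent.SheafHomX.Main
import Groth.Agent.QCoh.ProperOver
import Groth.Agent.QCoh.SupportFT
import Groth.Agent.FFun.Main
import Groth.Agent.FFun.Sup
import Groth.Agent.FFun.PropSupp
import Groth.Agent.Adic7.Basic

/-!
# Full faithfulness of completion for modules with properly meeting supports
-/

set_option linter.style.haveILetI false
set_option backward.isDefEq.respectTransparency false
set_option backward.isDefEq.respectTransparency.types false

universe u

open CategoryTheory CategoryTheory.Limits AlgebraicGeometry Opposite TopologicalSpace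

namespace Groth.Agent.SheafHomX

open Groth.Agent

variable {X : Scheme.{u}}

theorem restrict_eq_zero_of_notMem {M : X.Modules} (V : X.Opens)
    (hV : ∀ x ∈ V, x ∉ CohB1.support M) : IsZero (M.restrict V.ι) := by
  refine (IsZero.iff_id_eq_zero _).2 (Scheme.Modules.hom_ext _ _ fun W => ?_)
  ext s
  refine TopCat.Presheaf.section_ext ⟨M.presheaf, M.isSheaf⟩ (V.ι ''ᵁ W) _ _ fun x hx => ?_
  have hxV : x ∈ V := by
    obtain ⟨y, -, rfl⟩ := hx
    exact y.2
  haveI : Subsingleton (M.presheaf.stalk x) := not_not.1 (hV x hxV)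
  exact Subsingleton.elim _ _

theorem isZero_hom {M N : X.Modules} (h : IsZero M ∨ IsZero N) : IsZero ((hom M).obj N) := by
  rcases h with h | h
  · rw [IsZero.iff_id_eq_zero, ← homMap_id, (IsZero.iff_id_eq_zero M).1 h, homMap_zero]
  · exact Functor.map_isZero _ h

theorem support_hom_subset {M N : X.Modules} (hM : Coh.IsCoh M) (hN : Coh.IsCoh N) :
    CohB1.support ((hom M).obj N) ⊆ CohB1.support M ∩ CohB1.support N := by
  intro x hx
  by_contra h
  have hopen : IsOpen ((CohB1.support M)ᶜ ∪ (CohB1.support N)ᶜ) :=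
    (QCoh.isClosed_support_of_ft hM.2).isOpen_compl.union (QCoh.isClosed_support_of_ft hN.2).isOpen_compl
  obtain ⟨V, hxV, hV⟩ : ∃ V : X.Opens, x ∈ V ∧ ((∀ y ∈ V, y ∉ CohB1.support M) ∨ ∀ y ∈ V, y ∉ CohB1.support N) := by
    rcases not_and_or.1 h with h1 | h1
    · exact ⟨⟨_, (QCoh.isClosed_support_of_ft hM.2).isOpen_compl⟩, h1, Or.inl fun y hy => hy⟩
    · exact ⟨⟨_, (QCoh.isClosed_support_of_ft hN.2).isOpen_compl⟩, h1, Or.inr fun y hy => hy⟩
  have hz : IsZero (((hom M).obj N).restrict V.ι) := by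
    refine IsZero.of_iso (isZero_hom ?_) ((restrictIso V.ι M).app N)
    exact hV.imp (restrict_eq_zero_of_notMem V) (restrict_eq_zero_of_notMem V)
  refine hx ⟨fun a b => ?_⟩
  have h0 : ∀ c : ((hom M).obj N).presheaf.stalk x, c = 0 := fun c => by
    obtain ⟨W, hxW, s, rfl⟩ := TopCat.Presheaf.exists_germ_eq (C := AddCommGrpCat.{u}) _ c
    have hle : V.ι ''ᵁ (V.ι ⁻¹ᵁ W) ≤ W := V.ι.image_preimage_le W
    rw [← TopCat.Presheaf.germ_res_apply ((hom M).obj N).presheaf (homOfLE hle) x ⟨⟨x, hxV⟩, hxW, rfl⟩ s]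
    refine (congrArg _ ?_).trans (map_zero _)
    exact congr(($((IsZero.iff_id_eq_zero _).1 hz)).app (V.ι ⁻¹ᵁ W) _)
  rw [h0 a, h0 b]

variable {A : Type u} [CommRing A] [IsNoetherianRing A] [X.Over (Spec (CommRingCat.of A))]
  [LocallyOfFiniteType (X ↘ Spec (CommRingCat.of A))] [QuasiCompact (X ↘ Spec (CommRingCat.of A))]

/-- Completion is fully faithful on modules whose supports meet properly over a complete base. -/
theorem existsUnique_of_proper (I : Ideal A) [IsAdicComplete I A] {M N : X.Modules} (hM : Coh.IsCoh M)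
    (hN : Coh.IsCoh N) {C : Set X} (hC : ClSub.IsProperOver (X ↘ Spec (CommRingCat.of A)) C)
    (hMN : CohB1.support M ∩ CohB1.support N ⊆ C)
    (ψ : Formal.completion I M ⟶ Formal.completion I N) :
    ∃! φ : M ⟶ N, ∀ n : ℕ, Formal.modPowπ I (n + 1) M ≫ ψ.app (op n) = φ ≫ Formal.modPowπ I (n + 1) N := by
  haveI : CompactSpace X := QuasiCompact.compactSpace_of_compactSpace (X ↘ Spec (CommRingCat.of A))
  haveI : IsLocallyNoetherian X := LocallyOfFiniteType.isLocallyNoetherian (X ↘ Spec (CommRingCat.of A))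
  haveI : IsNoetherian X := { __ := ‹IsLocallyNoetherian X›, __ := ‹CompactSpace X› }
  have hH : Coh.IsCoh ((hom M).obj N) := isCoh_hom hM hN
  have hin : FFun.InCls C ((hom M).obj N) := ⟨hH, (support_hom_subset hM hN).trans hMN⟩
  refine existsUnique_of_bijective I hM hN ?_ ψ
  have hfin := fun (P : X.Modules) (hP : FFun.InCls C P) (q : ℕ) =>
    FFun.finite_HH_of_properSupport A hC hP.1 hP.2 q
  have hG := FFun.good_of_finite (X := X) hfin I
  haveI := hfin _ hin 0
  haveI := Adic7.isAdicComplete_of_finite I (Coh.HH X ((hom M).obj N) 0)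
  have h : ⇑(Formal.toHHlim I ((hom M).obj N) 0) =
      ⇑(FFun.compΦ I ((hom M).obj N) 0) ∘ ⇑(AdicCompletion.of I (Coh.HH X ((hom M).obj N) 0)) :=
    funext fun x => (FFun.compΦ_of (I := I) (M := (hom M).obj N) (p := 0) x).symm
  rw [h]
  exact (FFun.compΦ_bijective (p := 0) hG hin).comp
    (AdicCompletion.of_bijective I (Coh.HH X ((hom M).obj N) 0))

end Groth.Agent.SheafHomX
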