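import Mathlib.RingTheory.Filtration
import Mathlib.LinearAlgebra.Pi
import Mathlib.RingTheory.Finiteness.Basic
import Mathlib.RingTheory.Noetherian.Basic

/-!
# Homomorphisms of finite modules against adic quotients (Artin–Rees)
-/

universe u

namespace Groth.Agent.SheafHomX

variable {R : Type u} [CommRing R] [IsNoetherianRing R] (J : Ideal R)
  (M N : Type u) [AddCommGroup M] [Module R M] [Module.Finite R M]
  [AddCommGroup N] [Module R N] [Module.Finite R N]

omit [IsNoetherianRing R] [Module.Finite R N] in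
theorem pi_mem_smul_top {a : ℕ} (K : Ideal R) {y : Fin a → N} (h : ∀ i, y i ∈ K • (⊤ : Submodule R N)) :
    y ∈ K • (⊤ : Submodule R (Fin a → N)) := by
  rw [show y = ∑ i, LinearMap.single R (fun _ : Fin a => N) i (y i) from
    (LinearMap.sum_single_apply (fun _ : Fin a => N) y).symm]
  refine Submodule.sum_mem _ fun i _ => ?_
  have := Submodule.mem_map_of_mem (f := LinearMap.single R (fun _ : Fin a => N) i) (h i)
  rw [Submodule.map_smul''] at this
  exact Submodule.smul_mono le_rfl le_top this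

omit [IsNoetherianRing R] [Module.Finite R N] in
theorem apply_mem_smul_top {a : ℕ} (K : Ideal R) {y : Fin a → N} (h : y ∈ K • (⊤ : Submodule R (Fin a → N)))
    (i : Fin a) : y i ∈ K • (⊤ : Submodule R N) := by
  have := Submodule.mem_map_of_mem (f := LinearMap.proj (φ := fun _ : Fin a => N) i) h
  rw [Submodule.map_smul''] at this
  exact Submodule.smul_mono le_rfl le_top this

/-- A presentation turns `Hom(M, N)` into the kernel of a matrix. -/
theorem exists_matrix :
    ∃ (a b : ℕ) (s : Fin a → M) (Φ : (Fin a → N) →ₗ[R] (Fin b → N))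
      (E : (M →ₗ[R] N) ≃ₗ[R] LinearMap.ker Φ),
      (∀ f i, (E f : Fin a → N) i = f (s i)) ∧ Submodule.span R (Set.range s) = ⊤ ∧
      ∀ (P : Type u) [AddCommGroup P] [Module R P] (π : N →ₗ[R] P) (g : M →ₗ[R] P) (z : Fin a → N),
        (∀ i, π (z i) = g (s i)) → ∀ j, π (Φ z j) = 0 := by
  obtain ⟨a, p, hp⟩ := Module.Finite.exists_fin' R M
  let s : Fin a → M := fun i => p (Pi.single i 1)
  have hps : ∀ c : Fin a → R, p c = ∑ i, c i • s i := fun c => by
    conv_lhs => rw [show c = ∑ i, c i • (Pi.single i 1 : Fin a → R) from by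
      ext j; simp [Finset.sum_apply, Pi.single_apply]]
    simp [s]
  obtain ⟨b, q, hq⟩ := Submodule.fg_iff_exists_fin_generating_family.1 (IsNoetherian.noetherian (LinearMap.ker p))
  let Φ : (Fin a → N) →ₗ[R] (Fin b → N) :=
    LinearMap.pi fun j => ∑ i, q j i • LinearMap.proj (φ := fun _ : Fin a => N) i
  have hΦ : ∀ z j, Φ z j = ∑ i, q j i • z i := fun z j => by
    simp [Φ]
  have hker : ∀ j, ∑ i, q j i • s i = 0 := fun j => by
    rw [← hps]
    exact LinearMap.mem_ker.1 (hq ▸ Submodule.subset_span ⟨j, rfl⟩)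
  let ev : (M →ₗ[R] N) →ₗ[R] LinearMap.ker Φ :=
    LinearMap.codRestrict _ (LinearMap.pi fun i => LinearMap.applyₗ (s i)) fun f => by
      ext j
      rw [hΦ]
      show ∑ i, q j i • f (s i) = 0
      simp_rw [← map_smul]
      rw [← map_sum, hker, map_zero]
  have hspan : Submodule.span R (Set.range s) = ⊤ := by
    rw [eq_top_iff]
    rintro m -
    obtain ⟨c, rfl⟩ := hp m
    rw [hps]
    exact Submodule.sum_mem _ fun i _ => Submodule.smul_mem _ _ (Submodule.subset_span ⟨i, rfl⟩)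
  have hev : Function.Bijective ev := by
    refine ⟨fun f g h => LinearMap.ext_on_range hspan fun i => congrFun (congrArg Subtype.val h) i, fun y => ?_⟩
    let l : (Fin a → R) →ₗ[R] N := ∑ i, (LinearMap.proj (φ := fun _ : Fin a => R) i).smulRight ((y : Fin a → N) i)
    have hl : ∀ c, l c = ∑ i, c i • (y : Fin a → N) i := fun c => by simp [l]
    have hle : LinearMap.ker p ≤ LinearMap.ker l := by
      rw [← hq, Submodule.span_le]
      rintro _ ⟨j, rfl⟩
      rw [SetLike.mem_coe, LinearMap.mem_ker, hl, ← hΦ, show Φ (y : Fin a → N) = 0 from y.2]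
      rfl
    refine ⟨((LinearMap.ker p).liftQ l hle).comp (p.quotKerEquivOfSurjective hp).symm.toLinearMap, ?_⟩
    ext i
    show (LinearMap.ker p).liftQ l hle ((p.quotKerEquivOfSurjective hp).symm (p (Pi.single i 1))) = _
    have e : (p.quotKerEquivOfSurjective hp).symm (p (Pi.single i 1)) = Submodule.Quotient.mk (Pi.single i 1) :=
      (LinearEquiv.symm_apply_eq _).2 rfl
    rw [e, Submodule.liftQ_apply, hl]
    simp [Pi.single_apply]
  refine ⟨a, b, s, Φ, LinearEquiv.ofBijective ev hev, fun f i => rfl, hspan, ?_⟩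
  intro P _ _ π g z hz j
  rw [hΦ, map_sum]
  simp_rw [map_smul, hz, ← map_smul]
  rw [← map_sum, hker, map_zero]

/-- A map landing in a deep power of `J` is in a power of `J` times all maps. -/
theorem exists_le_smul_hom (m : ℕ) : ∃ k₀, ∀ k, k₀ ≤ k → ∀ f : M →ₗ[R] N,
    (∀ x, f x ∈ J ^ k • (⊤ : Submodule R N)) → f ∈ J ^ m • (⊤ : Submodule R (M →ₗ[R] N)) := by
  obtain ⟨a, b, s, Φ, E, hE, -, -⟩ := exists_matrix M N (R := R)
  obtain ⟨c, hc⟩ := Ideal.exists_pow_inf_eq_pow_smul J (LinearMap.ker Φ)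
  refine ⟨c + m, fun k hk f hf => ?_⟩
  have h1 : (E f : Fin a → N) ∈ J ^ k • ⊤ ⊓ LinearMap.ker Φ :=
    ⟨pi_mem_smul_top N _ fun i => by rw [hE]; exact hf _, (E f).2⟩
  rw [hc k (by omega)] at h1
  have h2 : (E f : Fin a → N) ∈ (J ^ m • (⊤ : Submodule R (LinearMap.ker Φ))).map (LinearMap.ker Φ).subtype := by
    rw [Submodule.map_smul'', Submodule.map_subtype_top]
    exact Submodule.smul_mono (Ideal.pow_le_pow_right (by omega)) inf_le_right h1
  obtain ⟨y, hy, hy'⟩ := h2
  obtain rfl : y = E f := Subtype.ext hy'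
  have h3 := Submodule.mem_map_of_mem (f := E.symm.toLinearMap) hy
  rw [Submodule.map_smul'', Submodule.map_top, LinearEquiv.range] at h3
  simpa using h3

/-- A map into a deep quotient lifts, after projecting. -/
theorem exists_lift_hom (n : ℕ) : ∃ k₀, ∀ k, k₀ ≤ k → ∀ (P Q : Type u) [AddCommGroup P] [Module R P]
    [AddCommGroup Q] [Module R Q] (π : N →ₗ[R] P) (π' : N →ₗ[R] Q) (t : P →ₗ[R] Q), Function.Surjective π →
    LinearMap.ker π ≤ J ^ k • (⊤ : Submodule R N) → J ^ n • (⊤ : Submodule R N) ≤ LinearMap.ker π' →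
    t.comp π = π' → ∀ g : M →ₗ[R] P, ∃ f : M →ₗ[R] N, π'.comp f = t.comp g := by
  obtain ⟨a, b, s, Φ, E, hE, hspan, hΦ⟩ := exists_matrix M N (R := R)
  obtain ⟨c, hc⟩ := Ideal.exists_pow_inf_eq_pow_smul J (LinearMap.range Φ)
  refine ⟨c + n, fun k hk P Q _ _ _ _ π π' t hπ hk1 hk2 ht g => ?_⟩
  choose z hz using fun i => hπ (g (s i))
  have h1 : Φ z ∈ J ^ k • ⊤ ⊓ LinearMap.range Φ :=
    ⟨pi_mem_smul_top N _ fun j => hk1 (LinearMap.mem_ker.2 (hΦ P π g z hz j)), LinearMap.mem_range_self _ _⟩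
  rw [hc k (by omega)] at h1
  have h2 : Φ z ∈ (J ^ n • (⊤ : Submodule R (Fin a → N))).map Φ := by
    rw [Submodule.map_smul'', Submodule.map_top]
    exact Submodule.smul_mono (Ideal.pow_le_pow_right (by omega)) inf_le_right h1
  obtain ⟨d, hd, hd'⟩ := h2
  refine ⟨E.symm ⟨z - d, by simp [hd']⟩, LinearMap.ext_on_range hspan fun i => ?_⟩
  have h3 : (E.symm ⟨z - d, by simp [hd']⟩ : M →ₗ[R] N) (s i) = z i - d i := by
    rw [← hE]; simp
  show π' _ = t (g (s i))
  rw [h3, map_sub, LinearMap.mem_ker.1 (hk2 (apply_mem_smul_top N _ hd i)), sub_zero, ← hz, ← ht]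
  rfl

end Groth.Agent.SheafHomX
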