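import Groth.Agent.SheafHomX.Coherent
import Groth.Agent.SheafHomX.Smul
import Groth.Agent.SheafHomX.Alg
import Groth.Agent.OmegaLib.AffineHom
import Groth.Agent.InvX.Tensor
import Groth.Agent.Algz7.Completion
import Groth.Agent.QCoh.ArtinRees

/-!
# `hom(M, -)` against adic quotients, on an affine scheme
-/

set_option linter.style.haveILetI false
set_option backward.isDefEq.respectTransparency false
set_option backward.isDefEq.respectTransparency.types false

universe u

open CategoryTheory CategoryTheory.Limits AlgebraicGeometry Opposite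

namespace Groth.Agent.SheafHomX

open Groth.Agent

variable {A : Type u} [CommRing A] {X : Scheme.{u}} [X.Over (Spec (CommRingCat.of A))]

theorem globLocalized [IsAffine X] {M : X.Modules} (hM : Coh.IsQCoh M) : OmegaLib.GlobLocalized M := by
  refine fun r => ⟨fun k => ?_, fun k hk => QCoh.exists_pow_smul_eq_zero hM (isAffineOpen_top X) r k hk⟩
  obtain ⟨n, t, ht⟩ := QCoh.exists_pow_smul_eq_map hM (isAffineOpen_top X) r k
  exact ⟨n, t, ht.symm⟩

/-- A map out of a quasi-coherent module on an affine scheme is zero if it kills all global sections. -/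
theorem eq_zero_of_sect [IsAffine X] {S T : X.Modules} (hS : Coh.IsQCoh S) (f : S ⟶ T)
    (h : ∀ x : Coh.structureModule X ⟶ S, x ≫ f = 0) : f = 0 := by
  refine OmegaLib.hom_ext_of_affine (globLocalized hS) fun k => ?_
  have h1 : f.app ⊤ (InvX.one (InvX.ofSect k)) = 0 := congr(InvX.one $(h (InvX.ofSect k)))
  rw [InvX.one_ofSect] at h1
  exact h1.trans rfl

/-- The scalars on global sections. -/
noncomputable def glob (X : Scheme.{u}) [X.Over (Spec (CommRingCat.of A))] : A →+* Γ(X, ⊤) :=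
  (X.presheaf.map (homOfLE (le_top : (⊤ : X.Opens) ≤ ⊤)).op).hom.comp
    (Coh.toGlobal (X ↘ Spec (CommRingCat.of A)))

theorem smulMod_app_top (M : X.Modules) (a : A) (s : Γ(M, ⊤)) :
    (Formal.smulMod A M a).app ⊤ s = glob X a • s := rfl

theorem glob_smul_π [IsAffine X] {N : X.Modules} (hN : Coh.IsQCoh N) {I : Ideal A} {n : ℕ} {r : Γ(X, ⊤)}
    (hr : r ∈ (I ^ n).map (glob X)) (s : Γ(N, ⊤)) : (Formal.modPowπ I n N).app ⊤ (r • s) = 0 := by
  refine Submodule.span_induction (p := fun r _ => ∀ s, (Formal.modPowπ I n N).app ⊤ (r • s) = 0) ?_ ?_ ?_ ?_ hr s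
  · rintro _ ⟨a, ha, rfl⟩ s
    rw [← smulMod_app_top]
    exact congr(($(Algz7.smulMod_comp_eq_zero (cokernel.condition (Formal.smulFamily (I ^ n) N)) ha)).app ⊤ s)
  · intro s; rw [zero_smul, map_zero]
  · intro r r' _ _ h h' s; rw [add_smul, map_add, h, h', add_zero]
  · intro c r _ h s; rw [smul_eq_mul, mul_comm, mul_smul]; exact h _

theorem mem_smul_of_π_eq_zero [IsAffine X] {N : X.Modules} (hN : Coh.IsQCoh N) (J : Ideal A) {s : Γ(N, ⊤)}
    (hs : (cokernel.π (Formal.smulFamily J N)).app ⊤ s = 0) :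
    s ∈ J.map (glob X) • (⊤ : Submodule Γ(X, ⊤) Γ(N, ⊤)) := by
  letI := QCoh.secModule (Coh.toGlobal (X ↘ Spec (CommRingCat.of A))) N ⊤
  refine Submodule.smul_induction_on (app_cokernel_eq_zero hN J (isAffineOpen_top X) s hs)
    (fun a ha t _ => ?_) fun x y hx hy => add_mem hx hy
  show glob X a • t ∈ _
  exact Submodule.smul_mem_smul (Ideal.mem_map_of_mem _ ha) Submodule.mem_top

variable [IsAffine X] [IsLocallyNoetherian X]

/-- The kernel of `hom(M,N) → hom(M, N/I^k N)` is deep in the adic filtration. -/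
theorem exists_ker_le (I : Ideal A) {M N : X.Modules} (hM : Coh.IsCoh M) (hN : Coh.IsCoh N) (m : ℕ) :
    ∃ k₀, ∀ k, k₀ ≤ k →
      kernel.ι ((hom M).map (Formal.modPowπ I k N)) ≫ Formal.modPowπ I m ((hom M).obj N) = 0 := by
  let R := Γ(X, ⊤)
  haveI : IsNoetherianRing R := IsLocallyNoetherian.component_noetherian ⟨⊤, isAffineOpen_top X⟩
  haveI : Module.Finite R Γ(M, ⊤) := QCoh.finite_sections hM (isAffineOpen_top X)
  haveI : Module.Finite R Γ(N, ⊤) := QCoh.finite_sections hN (isAffineOpen_top X)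
  obtain ⟨k₀, hk₀⟩ := exists_le_smul_hom (I.map (glob X)) Γ(M, ⊤) Γ(N, ⊤) m
  refine ⟨k₀, fun k hk => ?_⟩
  have hHN := (isCoh_hom hM hN).1
  have hmk : Coh.IsQCoh (Formal.modPow I k N) := Algz7.isQCoh_modPow I k hN.1
  have hlift : ∀ g : Γ(M, ⊤) →ₗ[R] Γ(N, ⊤), ∃ y : Coh.structureModule X ⟶ (hom M).obj N,
      ∀ s, (ev M N y).app ⊤ s = g s := fun g => by
    obtain ⟨ψ, hψ⟩ := OmegaLib.exists_hom_of_affine (globLocalized hM.1) g.toAddMonoidHom g.map_smul
    exact ⟨(ev M N).symm ψ, fun s => by rw [AddEquiv.apply_symm_apply]; exact hψ s⟩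
  have huniq : ∀ x y : Coh.structureModule X ⟶ (hom M).obj N,
      (∀ s, (ev M N x).app ⊤ s = (ev M N y).app ⊤ s) → x = y := fun x y h =>
    (ev M N).injective (OmegaLib.hom_ext_of_affine (globLocalized hM.1) h)
  let P : (Γ(M, ⊤) →ₗ[R] Γ(N, ⊤)) → Prop := fun f => ∀ x : Coh.structureModule X ⟶ (hom M).obj N,
    (∀ s, (ev M N x).app ⊤ s = f s) → x ≫ Formal.modPowπ I m ((hom M).obj N) = 0
  have hP0 : P 0 := fun x hx => by
    rw [huniq x 0 fun s => by rw [hx, map_zero]; rfl, zero_comp]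
  have hPadd : ∀ f g, P f → P g → P (f + g) := fun f g hf hg x hx => by
    obtain ⟨y, hy⟩ := hlift f
    have h2 : (x - y) ≫ Formal.modPowπ I m ((hom M).obj N) = 0 := hg (x - y) fun s => by
      rw [map_sub]
      show (ev M N x).app ⊤ s - (ev M N y).app ⊤ s = g s
      rw [hx, hy, LinearMap.add_apply, add_sub_cancel_left]
    rw [Preadditive.sub_comp, hf y hy, sub_zero] at h2
    exact h2
  have hPgen : ∀ a ∈ I ^ m, ∀ g, P (glob X a • g) := fun a ha g x hx => by
    obtain ⟨y, hy⟩ := hlift g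
    have he : ev M N (y ≫ Formal.smulMod A ((hom M).obj N) a) = ev M N y ≫ Formal.smulMod A N a := by
      rw [← hom_map_smulMod, ev_naturality]
    rw [huniq x (y ≫ Formal.smulMod A ((hom M).obj N) a) fun s => by
      rw [hx, he]
      show glob X a • g s = (Formal.smulMod A N a).app ⊤ ((ev M N y).app ⊤ s)
      rw [hy]; rfl, Category.assoc]
    refine (congrArg (y ≫ ·) ?_).trans comp_zero
    exact Algz7.smulMod_comp_eq_zero (cokernel.condition (Formal.smulFamily (I ^ m) ((hom M).obj N))) ha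
  have hPmap : ∀ r ∈ (I.map (glob X)) ^ m, ∀ g, P (r • g) := by
    intro r hr
    rw [← Ideal.map_pow] at hr
    refine Submodule.span_induction ?_ ?_ ?_ ?_ hr
    · rintro _ ⟨a, ha, rfl⟩ g
      exact hPgen a ha g
    · intro g; rw [zero_smul]; exact hP0
    · intro r r' _ _ hr hr' g; rw [add_smul]; exact hPadd _ _ (hr g) (hr' g)
    · intro c r _ hr g
      rw [smul_eq_mul, mul_comm, mul_smul]
      exact hr (c • g)
  haveI : Epi (Formal.modPowπ I k N) := inferInstanceAs (Epi (cokernel.π _))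
  refine eq_zero_of_sect (QCoh.isQCoh_kernel hHN (isCoh_hom hM (Algz7.isCoh_of_epi (Formal.modPowπ I k N) hN hmk)).1 _) _
    fun z => ?_
  rw [← Category.assoc]
  set x := z ≫ kernel.ι ((hom M).map (Formal.modPowπ I k N)) with hxdef
  have hx0 : x ≫ (hom M).map (Formal.modPowπ I k N) = 0 := by
    rw [hxdef, Category.assoc, kernel.condition, comp_zero]
  have hφ : ev M N x ≫ Formal.modPowπ I k N = 0 := by
    rw [← ev_naturality, hx0, map_zero]
  let f : Γ(M, ⊤) →ₗ[R] Γ(N, ⊤) := QCoh.appLin (ev M N x) ⊤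
  refine Submodule.smul_induction_on (p := P) (hk₀ k hk f fun s => ?_) (fun r hr g _ => hPmap r hr g) hPadd x fun s => rfl
  rw [← Ideal.map_pow]
  exact mem_smul_of_π_eq_zero hN.1 _ (congr(($hφ).app ⊤ s))

/-- Maps into a deep quotient lift after projecting. -/
theorem exists_lift (I : Ideal A) {M N : X.Modules} (hM : Coh.IsCoh M) (hN : Coh.IsCoh N) (n : ℕ) :
    ∃ k₀, ∀ k, k₀ ≤ k → ∀ t : Formal.modPow I k N ⟶ Formal.modPow I n N,
      Formal.modPowπ I k N ≫ t = Formal.modPowπ I n N →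
        (hom M).map t ≫ cokernel.π ((hom M).map (Formal.modPowπ I n N)) = 0 := by
  let R := Γ(X, ⊤)
  haveI : IsNoetherianRing R := IsLocallyNoetherian.component_noetherian ⟨⊤, isAffineOpen_top X⟩
  haveI : Module.Finite R Γ(M, ⊤) := QCoh.finite_sections hM (isAffineOpen_top X)
  haveI : Module.Finite R Γ(N, ⊤) := QCoh.finite_sections hN (isAffineOpen_top X)
  obtain ⟨k₀, hk₀⟩ := exists_lift_hom (I.map (glob X)) Γ(M, ⊤) Γ(N, ⊤) n
  refine ⟨k₀, fun k hk t ht => ?_⟩
  haveI : Epi (Formal.modPowπ I k N) := inferInstanceAs (Epi (cokernel.π _))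
  have hmk : ∀ j, Coh.IsQCoh (Formal.modPow I j N) := fun j => Algz7.isQCoh_modPow I j hN.1
  refine eq_zero_of_sect (isCoh_hom hM (Algz7.isCoh_of_epi (Formal.modPowπ I k N) hN (hmk k))).1 _
    fun x => ?_
  obtain ⟨f, hf⟩ := hk₀ k hk Γ(Formal.modPow I k N, ⊤) Γ(Formal.modPow I n N, ⊤)
    (QCoh.appLin (Formal.modPowπ I k N) ⊤) (QCoh.appLin (Formal.modPowπ I n N) ⊤) (QCoh.appLin t ⊤)
    (QCoh.app_surjective_of_epi hN.1 (hmk k) _ (isAffineOpen_top X))
    (fun s hs => by
      rw [← Ideal.map_pow]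
      exact mem_smul_of_π_eq_zero hN.1 _ hs)
    (by
      rw [← Ideal.map_pow, Submodule.smul_le]
      intro r hr s _
      rw [LinearMap.mem_ker]
      exact glob_smul_π hN.1 hr s)
    (LinearMap.ext fun s => congr(($ht).app ⊤ s))
    (QCoh.appLin (ev M _ x) ⊤)
  obtain ⟨ψ, hψ⟩ := OmegaLib.exists_hom_of_affine (globLocalized hM.1) f.toAddMonoidHom f.map_smul
  have he : x ≫ (hom M).map t = (ev M N).symm ψ ≫ (hom M).map (Formal.modPowπ I n N) := by
    apply (ev M _).injective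
    rw [ev_naturality, ev_naturality, AddEquiv.apply_symm_apply]
    refine OmegaLib.hom_ext_of_affine (globLocalized hM.1) fun s => ?_
    show t.app ⊤ ((ev M _ x).app ⊤ s) = (Formal.modPowπ I n N).app ⊤ (ψ.app ⊤ s)
    rw [hψ]
    exact (LinearMap.congr_fun hf s).symm
  rw [← Category.assoc, he, Category.assoc, cokernel.condition, comp_zero]

end Groth.Agent.SheafHomX
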