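import Groth.Agent.SheafHomX.Coherent
import Groth.Agent.AssLib.OpenRestrict
import Groth.Agent.KFlatLib.Scheme.Exact
import Groth.Agent.KFlatLib.Scheme.Tensor
import Groth.Agent.Alg6.AssDepth
import Groth.Agent.QCoh.Stalk
import Groth.Agent.S9524
import Groth.Prelude.Def_DerSch
import Mathlib.Algebra.Category.ModuleCat.Biproducts
import Mathlib.RingTheory.KrullDimension.Module

/-!
# Stalks and depth of sheaf Homs of coherent modules
-/

set_option linter.style.haveILetI false
set_option backward.isDefEq.respectTransparency false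
set_option backward.isDefEq.respectTransparency.types false

universe u

open CategoryTheory CategoryTheory.Limits AlgebraicGeometry RingTheory.Sequence

namespace Groth.Agent.SheafHomX

open Groth.Agent

attribute [local instance] QCoh.hasFiniteBiproducts

section Algebra

variable {R : Type u} [CommRing R] {G H : Type u} [AddCommGroup G] [Module R G] [AddCommGroup H] [Module R H]
  {σ τ : Type u} (ι : H →ₗ[R] (σ → G)) (a : (σ → G) →ₗ[R] (τ → G))

theorem isSMulRegular_pi {x : R} (hx : IsSMulRegular G x) : IsSMulRegular (σ → G) x :=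
  fun v w h => funext fun i => hx (congrFun h i)

theorem isSMulRegular_of_embedding (hι : Function.Injective ι) {x : R} (hx : IsSMulRegular G x) :
    IsSMulRegular H x := (isSMulRegular_pi hx).of_injective ι hι

theorem isSMulRegular_quot (hι : Function.Injective ι) (he : Function.Exact ι a) {x y : R}
    (hx : IsSMulRegular G x) (hy : IsSMulRegular (QuotSMulTop x G) y) :
    IsSMulRegular (QuotSMulTop x H) y := by
  rw [isSMulRegular_iff_right_eq_zero_of_smul]
  intro q hq
  induction q using Submodule.Quotient.induction_on with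
  | H h =>
    rw [← Submodule.Quotient.mk_smul, Submodule.Quotient.mk_eq_zero] at hq
    obtain ⟨h', -, hh'⟩ := hq
    have hdvd : ∀ i, ∃ g : G, ι h i = x • g := fun i => by
      have h0 : y • (Submodule.Quotient.mk (ι h i) : QuotSMulTop x G) = 0 := by
        rw [← Submodule.Quotient.mk_smul, Submodule.Quotient.mk_eq_zero]
        refine ⟨ι h' i, trivial, ?_⟩
        have := congrFun (congrArg ι hh') i
        simpa using this
      have h1 := (isSMulRegular_iff_right_eq_zero_of_smul.1 hy) _ h0
      rw [Submodule.Quotient.mk_eq_zero] at h1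
      obtain ⟨g, -, hg⟩ := h1
      exact ⟨g, hg.symm⟩
    choose g hg using hdvd
    have hιg : ι h = x • g := funext hg
    have hag : a g = 0 := by
      refine isSMulRegular_iff_right_eq_zero_of_smul.1 (isSMulRegular_pi hx) _ ?_
      rw [← map_smul, ← hιg]
      exact he.apply_apply_eq_zero h
    obtain ⟨h'', hh''⟩ := (he g).1 hag
    rw [Submodule.Quotient.mk_eq_zero]
    refine ⟨h'', trivial, hι ?_⟩
    change ι (x • h'') = ι h
    rw [map_smul, hh'', hιg]

variable [IsLocalRing R]

theorem exists_regular_seq_of_le_depth [IsNoetherianRing R] [Module.Finite R G] {n : ℕ}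
    (h : (n : ℕ∞) ≤ LocCoh.depth R G) :
    ∃ rs : List R, IsWeaklyRegular G rs ∧ (∀ r ∈ rs, r ∈ IsLocalRing.maximalIdeal R) ∧ rs.length = n := by
  rcases subsingleton_or_nontrivial G with hG | hG
  · refine ⟨List.replicate n 0, (isWeaklyRegular_iff _ _).2 fun i hi => ?_,
      fun r hr => by simp [(List.mem_replicate.1 hr).2], by simp⟩
    exact fun a b _ => Subsingleton.elim a b
  · obtain ⟨rs, hrs, hmem, hlen⟩ := Alg6.exists_length_ge_of_le_idealDepth
      (Alg6.maximal_smul_top_ne_top (R := R) (M := G)) h
    refine ⟨rs.take n, ?_, fun r hr => hmem r (List.mem_of_mem_take hr), by simp [hlen]⟩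
    exact ((isWeaklyRegular_append_iff G (rs.take n) (rs.drop n)).1 (by rwa [List.take_append_drop])).1

theorem one_le_depth_of_embedding [IsNoetherianRing R] [Module.Finite R G] (hι : Function.Injective ι)
    (h : (1 : ℕ∞) ≤ LocCoh.depth R G) : (1 : ℕ∞) ≤ LocCoh.depth R H := by
  obtain ⟨rs, hrs, hmem, hlen⟩ := exists_regular_seq_of_le_depth (n := 1) (by exact_mod_cast h)
  obtain ⟨x, rfl⟩ := List.length_eq_one_iff.1 hlen
  have := Alg6.length_le_idealDepth (M := H) (I := IsLocalRing.maximalIdeal R) (rs := [x])
    (IsWeaklyRegular.cons (isSMulRegular_of_embedding ι hι ((isWeaklyRegular_cons_iff G x []).1 hrs).1)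
      (IsWeaklyRegular.nil R _)) hmem
  simpa [LocCoh.depth] using this

theorem two_le_depth_of_kernel [IsNoetherianRing R] [Module.Finite R G] (hι : Function.Injective ι)
    (he : Function.Exact ι a) (h : (2 : ℕ∞) ≤ LocCoh.depth R G) : (2 : ℕ∞) ≤ LocCoh.depth R H := by
  obtain ⟨rs, hrs, hmem, hlen⟩ := exists_regular_seq_of_le_depth (n := 2) (by exact_mod_cast h)
  obtain ⟨x, y, rfl⟩ := List.length_eq_two.1 hlen
  obtain ⟨hx, hy⟩ := (isWeaklyRegular_cons_iff G x [y]).1 hrs
  have := Alg6.length_le_idealDepth (M := H) (I := IsLocalRing.maximalIdeal R) (rs := [x, y])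
    (IsWeaklyRegular.cons (isSMulRegular_of_embedding ι hι hx)
      (IsWeaklyRegular.cons (isSMulRegular_quot ι a hι he hx ((isWeaklyRegular_cons_iff _ y []).1 hy).1)
        (IsWeaklyRegular.nil R _))) hmem
  simpa [LocCoh.depth] using this

theorem supportDim_le_of_embedding [Module.Finite R G] [Finite σ] (hι : Function.Injective ι) :
    Module.supportDim R H ≤ Module.supportDim R G := by
  refine (Module.supportDim_le_of_injective ι hι).trans (Order.krullDim_le_of_strictMono
    (fun p => ⟨p.1, ?_⟩) fun p q h => h)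
  refine Module.mem_support_iff_of_finite.2 (le_trans (fun r hr => ?_) (Module.mem_support_iff_of_finite.1 p.2))
  rw [Module.mem_annihilator] at hr ⊢
  exact fun v => funext fun i => hr (v i)

end Algebra

variable {X : Scheme.{u}}

/-- A map between finite sums, on stalks. -/
noncomputable def stalkPiIso (x : X) (σ : Type u) [Fintype σ] (G : X.Modules) :
    (DerSch.stalkFunctor X x).obj (⨁ fun _ : σ => G) ≅
      ModuleCat.of (X.presheaf.stalk x) (σ → G.presheaf.stalk x) :=
  haveI := preservesBinaryBiproducts_of_preservesBinaryProducts (DerSch.stalkFunctor X x)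
  haveI : PreservesBiproduct (fun _ : σ => G) (DerSch.stalkFunctor X x) :=
    preservesBiproduct_of_preservesProduct _
  (DerSch.stalkFunctor X x).mapBiproduct _ ≪≫ biproduct.isoProduct _ ≪≫ ModuleCat.piIsoPi _

/-- Near any point, the sheaf Hom is the kernel of a map between finite powers of the target. -/
theorem exists_stalk_presentation [IsLocallyNoetherian X] {F : X.Modules} (G : X.Modules)
    (hF : Coh.IsCoh F) (x : X) :
    ∃ (σ τ : Type u) (_ : Fintype σ) (_ : Fintype τ)
      (ι : ((hom F).obj G).presheaf.stalk x →ₗ[X.presheaf.stalk x] (σ → G.presheaf.stalk x))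
      (a : (σ → G.presheaf.stalk x) →ₗ[X.presheaf.stalk x] (τ → G.presheaf.stalk x)),
      Function.Injective ι ∧ Function.Exact ι a := by
  obtain ⟨V, hV, hxV, -⟩ := exists_isAffineOpen_mem_and_subset (x := x) (U := (⊤ : X.Opens)) trivial
  let j : Spec Γ(X, V) ⟶ X := hV.fromSpec
  haveI : IsLocallyNoetherian (Spec Γ(X, V)) := LocallyOfFiniteType.isLocallyNoetherian j
  haveI : IsNoetherianRing Γ(X, V) := isLocallyNoetherian_Spec.1 ‹_›
  obtain ⟨y, rfl⟩ : x ∈ Set.range j := hV.range_fromSpec.ge hxV
  obtain ⟨σ, τ, _, _, f, g, w, hg, he⟩ := exists_presentation_biproduct (isCoh_restrict j hF)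
  haveI : Epi (ShortComplex.mk f g w).g := hg
  obtain ⟨e⟩ := exists_kernel_iso he (G.restrict j)
  let d : ∀ (β : Type u) [Fintype β],
      (hom (⨁ fun _ : β => Coh.structureModule (Spec Γ(X, V)))).obj (G.restrict j) ≅ ⨁ fun _ : β => G.restrict j :=
    fun β _ => homBiproductIso _ _ ≪≫ biproduct.mapIso fun _ => (unitIso (Spec Γ(X, V))).app (G.restrict j)
  let ψ := (homMap f).app (G.restrict j)
  let T := DerSch.stalkFunctor (Spec Γ(X, V)) y
  let q : ((hom F).obj G).restrict j ≅ kernel ψ := (restrictIso j F).app G ≪≫ e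
  let ι' := T.map (q.hom ≫ kernel.ι ψ ≫ (d σ).hom) ≫ (stalkPiIso y σ (G.restrict j)).hom
  let a' := (stalkPiIso y σ (G.restrict j)).inv ≫ T.map ((d σ).inv ≫ ψ ≫ (d τ).hom) ≫
    (stalkPiIso y τ (G.restrict j)).hom
  haveI : Mono ι' := inferInstance
  have hw : (q.hom ≫ kernel.ι ψ ≫ (d σ).hom) ≫ (d σ).inv ≫ ψ ≫ (d τ).hom = 0 := by simp
  have hS : (ShortComplex.mk _ _ hw).Exact :=
    (ShortComplex.exact_iff_of_iso (ShortComplex.isoMk q.symm (d σ) (d τ) (by simp) (by simp))).1
      (ShortComplex.exact_of_f_is_kernel (ShortComplex.mk (kernel.ι ψ) ψ (kernel.condition ψ))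
        (kernelIsKernel ψ))
  have hwa : ι' ≫ a' = 0 := by
    simp only [ι', a', Category.assoc, Iso.hom_inv_id_assoc]
    rw [← Functor.map_comp_assoc, hw, Functor.map_zero, zero_comp]
  have hex : (ShortComplex.mk ι' a' hwa).Exact :=
    (ShortComplex.exact_iff_of_iso (S₁ := (ShortComplex.mk _ _ hw).map T) (S₂ := ShortComplex.mk ι' a' hwa)
      (ShortComplex.isoMk (Iso.refl _) (stalkPiIso y σ (G.restrict j))
      (stalkPiIso y τ (G.restrict j)) (by simp [ι', T]) (by simp [a', T]))).1
      (hS.map T)
  have hinj : Function.Injective ι'.hom := (ModuleCat.mono_iff_injective ι').1 inferInstance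
  have hexf : Function.Exact ι'.hom a'.hom :=
    (ShortComplex.ShortExact.moduleCat_exact_iff_function_exact _).1 hex
  obtain ⟨eH, heH⟩ := AssLib.exists_semilinear_restrict j ((hom F).obj G) y
  obtain ⟨eG, heG⟩ := AssLib.exists_semilinear_restrict j G y
  have hsymm : ∀ (M : X.Modules) (e : (M.restrict j).presheaf.stalk y ≃+ M.presheaf.stalk (j.base y)),
      (∀ (r : X.presheaf.stalk (j.base y)) m, e ((j.stalkMap y).hom r • m) = r • e m) →
      ∀ r m, e.symm (r • m) = (j.stalkMap y).hom r • e.symm m := fun M e he r m => by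
    apply e.injective
    rw [e.apply_symm_apply, he, e.apply_symm_apply]
  refine ⟨σ, τ, inferInstance, inferInstance,
    { toFun := fun h i => eG (ι'.hom (eH.symm h) i)
      map_add' := fun h h' => funext fun i => by
        show eG (ι'.hom (eH.symm (h + h')) i) = _
        rw [map_add, map_add]; exact map_add eG _ _
      map_smul' := fun r h => funext fun i => by
        show eG (ι'.hom (eH.symm (r • h)) i) = r • eG (ι'.hom (eH.symm h) i)
        rw [hsymm _ eH heH, map_smul]; exact heG r _ },
    { toFun := fun v k => eG (a'.hom (fun i => eG.symm (v i)) k)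
      map_add' := fun v v' => funext fun k => by
        show eG (a'.hom (fun i => eG.symm ((v + v') i)) k) = _
        rw [show (fun i => eG.symm ((v + v') i)) = (fun i => eG.symm (v i)) + fun i => eG.symm (v' i) from
          funext fun i => map_add eG.symm _ _, map_add]
        exact map_add eG _ _
      map_smul' := fun r v => funext fun k => by
        show eG (a'.hom (fun i => eG.symm ((r • v) i)) k) = r • eG (a'.hom (fun i => eG.symm (v i)) k)
        rw [show (fun i => eG.symm ((r • v) i)) = (j.stalkMap y).hom r • fun i => eG.symm (v i) from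
          funext fun i => hsymm _ eG heG r _, map_smul]
        exact heG r _ }, ?_, ?_⟩
  · intro h h' hh
    refine eH.symm.injective (hinj (funext fun i => eG.injective ?_))
    exact congrFun hh i
  · intro v
    constructor
    · intro hv
      obtain ⟨h, hh⟩ := (hexf fun i => eG.symm (v i)).1 (funext fun k => eG.injective
        ((congrFun hv k).trans (map_zero eG).symm))
      refine ⟨eH h, funext fun i => ?_⟩
      show eG (ι'.hom (eH.symm (eH h)) i) = v i
      rw [eH.symm_apply_apply, hh]
      exact eG.apply_symm_apply _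
    · rintro ⟨h, rfl⟩
      refine funext fun k => ?_
      show eG (a'.hom (fun i => eG.symm (eG (ι'.hom (eH.symm h) i))) k) = 0
      simp only [AddEquiv.symm_apply_apply]
      rw [show (fun i => ι'.hom (eH.symm h) i) = ι'.hom (eH.symm h) from rfl,
        hexf.apply_apply_eq_zero]
      exact map_zero eG

/-- The same for the adjoint construction of sheaf Hom. -/
theorem exists_stalk_presentation' [IsLocallyNoetherian X] {F : X.Modules} (G : X.Modules)
    (hF : Coh.IsCoh F) [DCoh.HasSheafHom F] (x : X) :
    ∃ (σ τ : Type u) (_ : Fintype σ) (_ : Fintype τ)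
      (ι : ((DCoh.sheafHom F).obj G).presheaf.stalk x →ₗ[X.presheaf.stalk x] (σ → G.presheaf.stalk x))
      (a : (σ → G.presheaf.stalk x) →ₗ[X.presheaf.stalk x] (τ → G.presheaf.stalk x)),
      Function.Injective ι ∧ Function.Exact ι a := by
  obtain ⟨σ, τ, i1, i2, ι, a, hι, he⟩ := exists_stalk_presentation G hF x
  let e := ((DerSch.stalkFunctor X x).mapIso ((S9524.sheafHomIso F).app G).symm).toLinearEquiv
  exact ⟨σ, τ, i1, i2, ι.comp e.toLinearMap, a, hι.comp e.injective,
    LinearMap.exact_iff.2 (by rw [LinearMap.exact_iff.1 he]; exact (LinearEquiv.range_comp e ι).symm)⟩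

end Groth.Agent.SheafHomX
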